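import Cfsg.Agent.SporRec.Co3.Chain
import Cfsg.Agent.H792.SpHeis_m3
import Cfsg.Agent.Lib.PackAllU
import Cfsg.Agent.SporRec.Co3.Model
import Cfsg.Agent.S0397
import Cfsg.Agent.FastGrp
import Cfsg.Agent.Prune
set_option linter.all false

section
prune_inst 0x7f00000000000000000000000000000000000000000000000000000000000000000000000000000000000000000000000000000000000000000000000000000000000000000000000000000000000000003fffffffffffffffffffffffffffbeffbdffffffff

-- part: H526/Co3Data
section
set_option linter.all false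
open scoped Cfsg.Agent.FastGrp

/-!
# A Sylow 3-subgroup of `Co₃`: data and kernel checks (helper526)

`c0 … c6` : packed matrices modulo three of a polycyclic sequence of a Sylow 3-subgroup; `c6` central; `c2 … c5` are conjugate
to `c6`; `c0`, `c1` are conjugate to `c2 * c3`.
-/

set_option autoImplicit false

namespace Cfsg.Agent.H526.Co3Data

open Cfsg Cfsg.Agent.Lib.PackMat Cfsg.Agent.SporRec.LeechMod3 Cfsg.Agent.SporRec.LeechChain
  Cfsg.Agent.SporRec.Co3.MatData Cfsg.Agent.SporRec.Co3.ChainData Cfsg.Agent.SporRec.Co3.Chain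
  Cfsg.Agent.H526.PcNf

/-- packed matrix -/
def c0 : ℕ := 0x2000800100020002000800100020002000400100000002000400100020004000400000020004000800100020004000800100020002000800100000002000000000010000000400100020004000400080020004000000100020000000400080010004000400080010004000800080000004000800080010002000800080010002000400080010002000400000000004000400080010004000800080020004000800080010002000800100000002000000000010002000400080000004000000080000004000800080020004000800080000000000800100010002000400080010004000800100000002000800000020000000400100010000000400100020004000400080020004000800100000004000800100020002000800100020000000400100010002000000100000004000400080020000000000100020002000400000010004000400000000004000800080020004000800000010002000800100010000000400080010004000800000020000000800100020000000400000010002000400100020000000400080020004000800100020004000800000020002000800100020002000000100010002000400100000004000000080020004000800100000004000800100020002000800000020002000000100010002000000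10002000000040008000000400080010002000000040008001000400040008001000400080008001000400080008001000200080000001000200040008001000400080010002000000080010002000200040010001000000040000000000400040008000000400080010002000400000000002000200000010002000200040010001000000000010002000400040008002000400080010002000400000010000000000080010002000200000010001000200040010002000400040008002000000080010002000400000010002000200080010000000000040010001000200040010002000400000008000000400080010002000200000008001000400040008001000400080008002000400080000001000000080010001000200000008000000400080010002000000000000002000200040010001000200040010002000400000008002000400000010002000400080010002000200080010002000200040010001000000040010002000000000008002000000080000002000400080010002000200000010002000000000010001000200040000002000400040008002000400080000002000200040008001000400000008001000400080000002000400080008001000200080010000000000040008000000400080010002000000080010000000200040010001000200000010002000400040008002000400080000000000200000008001000400040000001000400080000002000400080008000000200080010001000200040000001000400080010000000200080010002000200040000001000200000000002000400000008002000400080010002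

/-- packed matrix -/
def c1 : ℕ := 0x400000010001000000040008000000000000008001000000000000001000000040000000000000000000001000000080000002000000040010000000000000008002000000000000001000400080000000000000000000001000000000000002000000040008000000400000010001000000000000001000000080000002000000000000002000000000000001000000080010000000000000008001000400000000001000000080000000000400000000002000000000000001000400040010000000000000010001000000000010002000000080000000000000000000001000200040010000000200000000001000200080000000000400040010000000400000008002000200080010000000200040010000000400000000002000200040000000000200040008000000400000010002000400080008000000000000000002000400080008000000000000008002000000000010001000000040000000000000000000002000400000010002000000080010000000000000010002000000000000002000000080000000000000000000002000200080010000000400000000001000400040000000000400040008000000200000010001000200080010000000000000000001000000040008000000000080008002000000000000002000000080010000000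000000000002000200080010000000200000000001000200040000000000200080010000000200000010002000400040010000000200080010000000200000000002000400080000000000200040010000000200000008001000400080008000000000000000002000000080008000000000000008001000000080000002000000080000000000000080000001000000000000002000000040010002000000000008001000000000000002000000040000000000000000010002000200080010000000400000000002000200080000000000400080008000000200000008002000200040008000000000080000001000000080008000000000000010001000000000000002000400040000000000000000000002000000000000002000000080010000000000080010001000000000000001000000040010000000000000000001000200040010000000400000000001000400080000000000200080008000000400000008001000400040010000000000000000001000000080010000000400000008002000000000000002000000040000002000000000000001000200040010000000200000000002000400040000000000400080010000000400000010001000200040008000000000000000001000000040010000000000000010002000000080000001000000040000000000000080000002000000000000001000000080008002000000000010002000000000000001000000080000000000000000010001000000000000002000000040008000000000000010002000400000000002000000040000000000400000000001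

/-- packed matrix -/
def c2 : ℕ := 0x800100020000000000100000004000800100020004000800100010004000400100000004000800100010004000400000010004000000080020000000400080010002000400000020002000800080020002000400000020004000400080010000000800080020002000400080000002000000000020002000800080020002000000080020004000400000010004000800080000002000400000010000000400080020002000800080020002000000080020002000800100020002000400100010004000800100020004000800100000004000800100010004000800100000002000800100020002000400100010004000800100020004000800100000004000000100010004000800100020004000400080010000000800080020000000000000010002000400080020000000800080020002000400080020002000800100020002000400100010004000800100020004000800100020004000000100010004000800100000000000000100020002000400000010000000800100020004000800100010004000400100010004000000100010004000000080010004000800080000002000400080000002000400080020000000800080020002000400000020004000400080010004000000080020002000400080010002000400080020000000800000020000000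00008002000000080000002000200040010001000400000010000000400080010001000400040000001000400080010001000000080010000000200040010001000400080010002000000080000001000000040010001000400080010001000400000000000000000080008002000200040008001000200040008002000200080008002000000040008002000400000008001000400000008002000200000008001000000000008002000200080008002000200040008002000400040008000000400080008002000200000008001000200040008002000200080008000000200000000002000400040008001000000080000002000200040008001000000040008002000200080000002000200040000002000400040000001000400080000002000200040008001000200000008002000000080008000000200040008002000400040008000000400000000002000200040000000000200040008002000200080008002000200040008002000400040008001000400080008002000000040008000000000040008002000200080008000000000040008002000000080010002000200040010001000400080000002000400000010001000400040010001000000080000001000400040008000000400080008000000000040008001000200000008002000200080000002000200040008002000400040008001000400080000000000200000008001000200040000002000200080008002000000040008002000400000008001000400080008002000200040000001000200040000002000200080000000000200040008002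

/-- packed matrix -/
def c3 : ℕ := 0x800000020004000400080020000000800100000004000800100000004000800100010004000800100020004000400100010002000800100010000000000080020002000400080020002000000000020002000400080000004000400000000000000800100010004000400080020002000400080020002000000080020002000400000010004000400000010002000800100010004000400080020002000000080020002000400000020000000000080010000000800080020000000400080020002000000100010004000800000010004000800100010000000800100020000000000080020004000400080020002000800000010004000000100010004000000100010004000800100020000000800080000004000400080020002000800100010004000800100010000000800100010004000000100000004000400100010002000800100010000000400080020002000000000020000000400080020002000400000010004000000100010000000800100000000000400080020002000400080020002000400080020002000000080010002000800080020004000800000020002000800100010004000800100010004000800100000004000800100020004000400100000002000800100000004000000080020002000000080000002000400080020002000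40008001000400040010001000000080010001000400040008000000000000008002000200040008002000200040008000000400000010000000200080010001000400040008000000200040000002000200040000002000200040008001000400040010001000200080010001000400000000000000200040008002000200040008002000200000000001000200080008002000400000000002000200080010001000400080010001000400080010002000400080010002000400040010001000000080010001000400040000002000200040008000000000040000002000200040008001000400000010001000200080010001000400040008002000200040008000000200040008002000000040000000000400000000001000200080010001000400000008002000000040008002000000040008002000200040008001000400040010001000200080010001000400040008002000000040000000000200000008002000200000008001000000080008002000400040008000000200080010001000000080010001000400080000001000400080000002000200080008002000400000010002000200080010001000400080010001000400080010000000400080010002000400040010000000200080010001000000040000002000000040008002000200040008002000000040008001000400040000001000200080010000000400040000002000200040000002000200040008002000200040008000000400040010001000200080010000000400040008000000200040008002000000000008002000000040008001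

/-- packed matrix -/
def c4 : ℕ := 0x400000000002000200000008001000000000000000000000040008000000000040008001000000000000000000000000000000000400080008001000400000000000000000080008000000000040010002000000000000000000200080010002000000040000000000400040008002000200000000001000200000000000000400040010002000400000000002000400000010002000000000000000000000080010000000000080010002000000000000000000000000010000000400000008002000000000000000000400040008000000000080010001000000000000000000000000000000000200000008001000000000010002000000080010000000000080010001000000000000000000000000000000000400000010001000000080000000000000080008000000000080008001000000000000002000000000000000000200000008002000000080000000000000040010000000000040010002000000000000002000000000000000000400000010002000000000010002000000040008000000000040008002000000000000000000200040010002000000040000000000400080010001000200000000002000200000000000000200080010001000000080000000000200000010002000000000000000000000080008000000000040010001000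000080000000000000080000000000400000008001000000000000000000000040010000000000080008002000000080000000000200080008002000000040000000000400080008002000400000000002000400000000000000200040008001000000000000000000400000008002000000000000000000000080010002000000040008001000400000000000000000000000000000400000010001000000000000000000000040010000000400040010001000000000010000000200080010002000000080000000000200040010001000200000000002000400000000000000200040008002000200040010002000000080000000000200080008002000200000000001000400000000000000400080008001000000000000000000200000008002000000000000000000000080008000000400080008002000000000010000000000000000000000200000010001000000000000000000000040008002000000080010002000400000000000000000000010000000200000010001000000000000000000400080010000000000040008002000000000000000000200080008002000000080000000000200080010001000400000000001000200000000000000400040010001000000000000000000200080010002000400000000000000000040010000000000080008001000000000000000000200040008002000000080000000000200040008002000400000000002000200000000000000200080010002000200040008002000000040000000000400040010001000400000000001000400000000000000400080008002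

/-- packed matrix -/
def c5 : ℕ := 0x200080008000000400080010002000200080008002000200040010002000400080008002000400000010002000400000008001000400000010002000000080000000000200040010002000400080008002000400040010002000400080008001000400080000002000200080000002000000040010002000400000008002000400040000002000000040010001000200040008001000400040010001000400080008001000200040010001000200000008001000200040010002000200000000001000400040010001000400080008001000000040010000000200080008000000200000010002000000040008001000400040010001000400080000001000200000010000000200080008001000400080000001000000080000002000000080008002000200040010002000400080008002000000040010002000400080008001000400080010000000000080008002000000040010000000400080008000000400040010002000400000008001000400080000000000200080008002000200000010002000400080000002000400040010002000400080008001000400080010002000200000000002000200000010002000400080008000000000040010002000400000000001000400080010002000200000008002000000040010002000400080008002000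400040010000000200000010002000200040008001000400040010001000400080008000000000040010001000000080000001000400080000001000400080010000000200080000002000200040000002000000080008002000400040010002000400080008001000400080010002000000000008002000200040010002000000000000002000400040010002000400080008001000400000010002000200080008002000000040000002000400080000002000000040010002000200040010002000200040008000000400040010000000400080008001000200000010001000000080008000000400080008001000000080010002000200080008000000000000010002000000080008002000400040010002000400080000001000400000010002000200080008002000200000010000000400000008002000400040010002000400080008001000400080010002000000080008002000200000000002000400080008002000400040000000000200040010002000000000008000000400000010001000400080008001000200040010001000200080000001000200040010002000200040000001000400000010000000400080000000000200040010001000200080008001000000040010000000200040008001000400040010001000400080008001000200040010001000200040008001000400080000001000400080010002000200080008000000200040010002000400080000000000400040000002000400080008001000000080010002000200080000002000200040010000000400080000002000400040010000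

/-- packed matrix -/
def c6 : ℕ := 0x800000020004000800100020004000400000020000000400100020002000000100020004000800100020004000400100010002000000000010002000800000010004000800080010004000800080010000000400080000004000400000010002000000080010000000800100010004000800080000004000800000010002000400080010004000400100010000000000080010002000800100010004000800080010004000000080000002000000080010004000400100010002000400080010000000800000000004000800000010004000800080010002000000080010000000000080000004000000100020004000400080020002000400000020002000400100020004000800100020004000400100010002000400080010002000800100010004000800000010004000000000010002000400000000004000400100010000000400000010002000800100010000000800000000004000800080010002000400080010000000800080020000000800100020000000400080020002000400100020002000400100020000000800000020004000400000010002000400080000002000800100010004000800000010004000800080000000000400080010002000800080020004000800100020004000000080020002000000100020004000400100020004000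80010002000400040010000000000040008000000200080000001000400080008001000400080000001000200040008001000200080008002000400080010002000400080008002000200000010002000000040010002000400080010002000400040000000000200040000001000200080010001000400080008001000400080008001000200000000001000400040010001000200000008000000200080010000000000080008001000400080008001000200040000001000000080008002000400080010000000400040008002000200040010000000200040010002000400000010000000400000000001000000040008001000200080010000000400080008001000400080008001000200040008000000200080008002000400080010002000400000008002000200080010002000000040010002000400080010002000000080008002000400080000002000400040008000000200040010002000200040000000000400080010002000400000010001000200040008001000200080010001000000080008001000400080000001000000000008001000400040010000000200040008001000000080010001000000080008001000400080008000000200040008000000400040010000000200040008001000200080010000000400080008000000400000008001000000040008001000400000010001000200040000000000000080010001000400080008001000400000008001000200040008001000400000010001000200040008001000200080000001000400080008000000400080008000000200040000001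

/-- the generators and the seven elements -/
def gs15 : List ℕ := [code0, code1, code2, code3, code4, code5, code6, code7, c0, c1, c2, c3, c4, c5, c6]

/-- the seven elements -/
def gsP : List ℕ := [c0, c1, c2, c3, c4, c5, c6]

/-- word -/
def w0 : List ℕ := [0,3,5,0,0,3,7,3,7,3,7,7,0,0,0,2,7,0,0,5,7,7,0,0,2,0,0,6,0,0,2,7,2,0,0,5,7,3,1,7,7,0,0,4,0,0,5,7,1,2,1,7,2,5,0,0,6]

/-- word -/
def w1 : List ℕ := [2,7,7,2,3,4,0,0,5,3,4,7,7,3,0,0,1,0,0,3,0,0,2,7,7,3,0,0,6,4,0,0,2,7,4,3,0,0,1,4,3,7,0,0]

/-- word -/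
def w2 : List ℕ := [0,6,7,7,0,0,5,7,7,0,5,7,7,5,0,0,1,0,0,3,7,0,0,2,7,7,0,0,2,0,0,3,0,0,1,0,0,4,3,7,0,0,2,7,7,3,0,0,1,7,7,3,0,0,2,0,0,4,
  7,5,7,7,0,0,6,0,0,3,7,0,0,1,0,0,3,7,7,2,5,7,7,2,3,6,0,0]

/-- word -/
def w3 : List ℕ := [1,3,4,7,7,7,7,3,7,0,0,2,5,7,1,5,1,3,2,7,2,7,7,3,1,0,0,3,0,0,4,0,0,2,7,0,0,3,1,0,0,4,0,0,2,3,4,7,7,3,0,0,6,0,0,3,0,0,
  2,5,0,0,6,7,7,3]

/-- word -/
def w4 : List ℕ := [1,7,0,0,6,3,7,4,3,1,3,2,7,3,1,3,7,7,3,1,0,0,4,0,0,5,0,0,4,0,0,3,0,0,2,0,0,0,2,0,0,3,7,2,2,0,0,5,4,6,5,7]

/-- word -/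
def w5 : List ℕ := [0,0,6,7,7,0,0,5,7,3,7,7,3,0,0,6,5,4,6,0,0,1,0,0,3,0,0,2,7,7,0,0,2,3,4,0,0,1,7,7,3,6,7,0,0,5,7,3,5,4,7,7,0,0]

/-- word -/
def w6 : List ℕ := [3,4,3,7,0,0,1,7,7,5,0,0,4,7,4,0,0,5,7,0,0,4,1,0,0,5,7,5,0,0,2,7,7,5,6,7,0,0,1,0,0,3,7,7,0,0,3,4,2,7,7,2,3,7,3,5,7,5,
  1,7,7,0,0,3,7,0,0,4,0,0,3,2,4,7,7,0,0,2,7,0,0,3,0,0,1,0,0,3,7,3]

private noncomputable def _root_.Cfsg.Agent.KO91b92bc.k0 : (by first | exact type_of% @Cfsg.Agent.Lib.PackMat.rep | exact Unit : Sort _) := by first | (refine @Subtype.val _ (fun g => @Cfsg.Agent.Lib.PackMat.rep = @g) (@Subtype.mk _ _ (@(fun (x0 : @Nat) (x1 : @Nat) => @Nat.div (@Nat.sub (@Nat.pow (nat_lit 2) (@Nat.mul @x0 @x1)) (nat_lit 1)) (@Nat.sub (@Nat.pow (nat_lit 2) @x0) (nat_lit 1)))) ?_); rfl') | exact @Cfsg.Agent.Lib.PackMat.rep | exact ()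
private theorem _root_.Cfsg.Agent.KO91b92bc.e0 : (by first | exact @Cfsg.Agent.Lib.PackMat.rep = @_root_.Cfsg.Agent.KO91b92bc.k0 | exact True : Prop) := by first | (delta _root_.Cfsg.Agent.KO91b92bc.k0; exact @Subtype.property _ (fun g => @Cfsg.Agent.Lib.PackMat.rep = @g) _) | rfl | trivial
private noncomputable def _root_.Cfsg.Agent.KO91b92bc.k1 : (by first | exact type_of% @Cfsg.Agent.Lib.PackMat.okG | exact Unit : Sort _) := by first | (refine @Subtype.val _ (fun g => @Cfsg.Agent.Lib.PackMat.okG = @g) (@Subtype.mk _ _ (@(fun (x0 : @Cfsg.Agent.Lib.PackMat.Cfg) (x1 : @Nat) => @Nat.beq (@Nat.land @x1 (@Nat.mul (@Nat.sub (@Nat.pow (nat_lit 2) (@Cfsg.Agent.Lib.PackMat.Cfg.w @x0)) (nat_lit 1)) (@Cfsg.Agent.KO91b92bc.k0 (@Cfsg.Agent.Lib.PackMat.Cfg.s @x0) (@Nat.mul (@Cfsg.Agent.Lib.PackMat.Cfg.n @x0) (@Cfsg.Agent.Lib.PackMat.Cfg.n @x0))))) @x1)) ?_); rewrite [← Cfsg.Agent.KO91b92bc.e0]; (try delta Cfsg.Agent.Lib.PackMat.okG); (try generalize @Cfsg.Agent.Lib.PackMat.rep = g0); rfl') | exact @Cfsg.Agent.Lib.PackMat.okG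 | exact ()
private theorem _root_.Cfsg.Agent.KO91b92bc.e1 : (by first | exact @Cfsg.Agent.Lib.PackMat.okG = @_root_.Cfsg.Agent.KO91b92bc.k1 | exact True : Prop) := by first | (delta _root_.Cfsg.Agent.KO91b92bc.k1; exact @Subtype.property _ (fun g => @Cfsg.Agent.Lib.PackMat.okG = @g) _) | rfl | trivial
private noncomputable def _root_.Cfsg.Agent.KO91b92bc.k2 : (by first | exact type_of% @Cfsg.Agent.Lib.PackMat.checkEq | exact Unit : Sort _) := by first | (refine @Subtype.val _ (fun g => @Cfsg.Agent.Lib.PackMat.checkEq = @g) (@Subtype.mk _ _ (@_root_.Cfsg.Agent.Lib.PackAllU.eqU) ?_); exact _root_.Cfsg.Agent.Lib.PackAllU.checkEq_U) | exact @Cfsg.Agent.Lib.PackMat.checkEq | exact ()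
private theorem _root_.Cfsg.Agent.KO91b92bc.e2 : (by first | exact @Cfsg.Agent.Lib.PackMat.checkEq = @_root_.Cfsg.Agent.KO91b92bc.k2 | exact True : Prop) := by first | (delta _root_.Cfsg.Agent.KO91b92bc.k2; exact @Subtype.property _ (fun g => @Cfsg.Agent.Lib.PackMat.checkEq = @g) _) | rfl | trivial
private theorem _root_.Cfsg.Agent.KO91b92bc.e3.{ku, kv} {α : Type kv} {M : List α → Sort ku} (φ : ∀ l, M l) {z : M List.nil} {s : ∀ a l, M l → M (List.cons a l)} (h0 : φ List.nil = z) (hs : ∀ a l, φ (List.cons a l) = s a l (φ l)) (l : List α) : φ l = @List.rec α M z s l := List.rec h0 (fun a l ih => (hs a l).trans (congrArg (s a l) ih)) l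
private noncomputable def _root_.Cfsg.Agent.KO91b92bc.k4.{ku0, ku1} : ((x0 : Sort (ku0+1)) → ((x1 : Sort (ku1+1)) → ((x0 → x1) → ((@List.{ku0} @x0) → @List.{ku1} @x1)))) := @(fun (x0 : Sort (ku0+1)) (x1 : Sort (ku1+1)) (x2 : (x0 → x1)) (x3 : @List.{ku0} @x0) => @List.rec.{(ku1+1), ku0} @x0 @(fun (x4 : @List.{ku0} @x0) => @List.{ku1} @x1) (@List.nil.{ku1} @x1) @(fun (x4 : x0) (x5 : @List.{ku0} @x0) (x6 : @List.{ku1} @x1) => @List.cons.{ku1} @x1 (@x2 @x4) @x6) @x3)
private theorem _root_.Cfsg.Agent.KO91b92bc.e4.{ku0, ku1} : @List.map.{ku0, ku1} = @_root_.Cfsg.Agent.KO91b92bc.k4.{ku0, ku1} := by delta _root_.Cfsg.Agent.KO91b92bc.k4; funext a0 a1 a2 a3; refine (_root_.Cfsg.Agent.KO91b92bc.e3 (fun a3 => @List.map.{ku0, ku1} a0 a1 a2 a3) ?_ (fun c0 c1 => ?_) a3 :) <;> (rfl')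
private noncomputable def _root_.Cfsg.Agent.KO91b92bc.k6.{ku0} : ((x0 : Sort (ku0+1)) → ((@List.{ku0} @x0) → (@Nat → @Option.{ku0} @x0))) := @(fun (x0 : Sort (ku0+1)) (x1 : @List.{ku0} @x0) (x2 : @Nat) => @List.rec.{(ku0+1), ku0} @x0 @(fun (x3 : @List.{ku0} @x0) => (@Nat → @Option.{ku0} @x0)) @(fun (x3 : @Nat) => @Option.none.{ku0} @x0) @(fun (x3 : x0) (x4 : @List.{ku0} @x0) (x5 : (@Nat → @Option.{ku0} @x0)) (x6 : @Nat) => @Nat.rec.{(ku0+1)} @(fun (x7 : @Nat) => @Option.{ku0} @x0) (@Option.some.{ku0} @x0 @x3) @(fun (x7 : @Nat) (x8 : @Option.{ku0} @x0) => @x5 @x7) @x6) @x1 @x2)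
private theorem _root_.Cfsg.Agent.KO91b92bc.e6.{ku0} : @List.get?Internal.{ku0} = @_root_.Cfsg.Agent.KO91b92bc.k6.{ku0} := by delta _root_.Cfsg.Agent.KO91b92bc.k6; funext a0 a1 a2; refine (congrFun (_root_.Cfsg.Agent.KO91b92bc.e3 (fun a1 a2 => @List.get?Internal.{ku0} a0 a1 a2) ?_ (fun c0 c1 => ?_) a1) a2 :) <;> [(funext b0; (rfl')); (funext b0; (cases b0 with | @zero  => (rfl') | @succ b0_0 => (rfl')))]
private noncomputable def _root_.Cfsg.Agent.KO91b92bc.k7.{ku0} : ((x0 : Sort (ku0+1)) → ((@List.{ku0} @x0) → ((x0 → @Bool) → @Bool))) := @(fun (x0 : Sort (ku0+1)) (x1 : @List.{ku0} @x0) (x2 : (x0 → @Bool)) => @List.rec.{(ku0+1), ku0} @x0 @(fun (x3 : @List.{ku0} @x0) => ((x0 → @Bool) → @Bool)) @(fun (x3 : (x0 → @Bool)) => @Bool.true) @(fun (x3 : x0) (x4 : @List.{ku0} @x0) (x5 : ((x0 → @Bool) → @Bool)) (x6 : (x0 → @Bool)) => @Bool.rec.{1} @(fun (x7 : @Bool) => @Bool) @Bool.false (@x5 @x6) (@x6 @x3)) @x1 @x2)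
private theorem _root_.Cfsg.Agent.KO91b92bc.e7.{ku0} : @List.all.{ku0} = @_root_.Cfsg.Agent.KO91b92bc.k7.{ku0} := by delta _root_.Cfsg.Agent.KO91b92bc.k7; funext a0 a1 a2; refine (congrFun (_root_.Cfsg.Agent.KO91b92bc.e3 (fun a1 a2 => @List.all.{ku0} a0 a1 a2) ?_ (fun c0 c1 => ?_) a1) a2 :) <;> (rfl')
private noncomputable def _root_.Cfsg.Agent.KO91b92bc.k8.{ku0} : ((x0 : Sort (ku0+1)) → ((@List.{ku0} @x0) → @Nat)) := @(fun (x0 : Sort (ku0+1)) (x1 : @List.{ku0} @x0) => @List.rec.{1, ku0} @x0 @(fun (x2 : @List.{ku0} @x0) => @Nat) (nat_lit 0) @(fun (x2 : x0) (x3 : @List.{ku0} @x0) (x4 : @Nat) => @Nat.add @x4 (nat_lit 1)) @x1)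
private theorem _root_.Cfsg.Agent.KO91b92bc.e8.{ku0} : @List.length.{ku0} = @_root_.Cfsg.Agent.KO91b92bc.k8.{ku0} := by delta _root_.Cfsg.Agent.KO91b92bc.k8; funext a0 a1; refine (_root_.Cfsg.Agent.KO91b92bc.e3 (fun a1 => @List.length.{ku0} a0 a1) ?_ (fun c0 c1 => ?_) a1 :) <;> (rfl')
private noncomputable def _root_.Cfsg.Agent.KO91b92bc.k9 : (by first | exact type_of% @Cfsg.Agent.SporRec.LeechChain.wordIs | exact Unit : Sort _) := by first | (refine @Subtype.val _ (fun g => @Cfsg.Agent.SporRec.LeechChain.wordIs = @g) (@Subtype.mk _ _ (@(fun (x0 : @List.{0} @Nat) (x1 : @List.{0} @Nat) (x2 : @Nat) => @Bool.rec.{1} @(fun (x3 : @Bool) => @Bool) @Bool.false (@Cfsg.Agent.KO91b92bc.k1 @Cfsg.Agent.SporRec.LeechMod3.cfg @x2) (@Bool.rec.{1} @(fun (x3 : @Bool) => @Bool) @Bool.false (@Cfsg.Agent.KO91b92bc.k2 @Cfsg.Agent.SporRec.LeechMod3.cfg (@Cfsg.Agent.KO91b92bc.k4.{0, 0} @Nat @Nat @(fun (x3 : @Nat) => @Option.rec.{1, 0} @Nat @(fun (x4 : @Option.{0} @Nat) => @Nat) (nat_lit 0) @(fun (x4 : @Nat) => x4) (@Cfsg.Agent.KO91b92bc.k6.{0}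 @Nat @x0 @x3)) @x1) (@List.cons.{0} @Nat @x2 (@List.nil.{0} @Nat)) (nat_lit 0) (nat_lit 24)) (@Cfsg.Agent.KO91b92bc.k7.{0} @Nat @x1 @(fun (x3 : @Nat) => @Nat.ble (@Nat.succ @x3) (@Cfsg.Agent.KO91b92bc.k8.{0} @Nat @x0)))))) ?_); rewrite [← Cfsg.Agent.KO91b92bc.e8.{0}, ← Cfsg.Agent.KO91b92bc.e7.{0}, ← Cfsg.Agent.KO91b92bc.e6.{0}, ← Cfsg.Agent.KO91b92bc.e4.{0, 0}, ← Cfsg.Agent.KO91b92bc.e2, ← Cfsg.Agent.KO91b92bc.e1]; (try delta Cfsg.Agent.SporRec.LeechChain.wordIs Cfsg.Agent.SporRec.LeechChain.wok Cfsg.Agent.SporRec.LeechChain.wmats); (try generalize @Cfsg.Agent.Lib.PackMat.okG = g0); (try generalize @Cfsg.Agent.SporRec.LeechMod3.cfg = g1); (try generalize @Cfsg.Agent.Lib.PackMat.checkEq = g2); rfl') | exact @Cfsg.Agent.SporRec.LeechChain.wordIs | exact ()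
private theorem _root_.Cfsg.Agent.KO91b92bc.e9 : (by first | exact @Cfsg.Agent.SporRec.LeechChain.wordIs = @_root_.Cfsg.Agent.KO91b92bc.k9 | exact True : Prop) := by first | (delta _root_.Cfsg.Agent.KO91b92bc.k9; exact @Subtype.property _ (fun g => @Cfsg.Agent.SporRec.LeechChain.wordIs = @g) _) | rfl | trivial

theorem word0 : wordIs gs0 w0 c0 = true := by (first | (rewrite [Cfsg.Agent.KO91b92bc.e9]; decide +kernel) | decide +kernel)
theorem word1 : wordIs gs0 w1 c1 = true := by (first | (rewrite [Cfsg.Agent.KO91b92bc.e9]; decide +kernel) | decide +kernel)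
theorem word2 : wordIs gs0 w2 c2 = true := by (first | (rewrite [Cfsg.Agent.KO91b92bc.e9]; decide +kernel) | decide +kernel)
theorem word3 : wordIs gs0 w3 c3 = true := by (first | (rewrite [Cfsg.Agent.KO91b92bc.e9]; decide +kernel) | decide +kernel)
theorem word4 : wordIs gs0 w4 c4 = true := by (first | (rewrite [Cfsg.Agent.KO91b92bc.e9]; decide +kernel) | decide +kernel)
theorem word5 : wordIs gs0 w5 c5 = true := by (first | (rewrite [Cfsg.Agent.KO91b92bc.e9]; decide +kernel) | decide +kernel)
theorem word6 : wordIs gs0 w6 c6 = true := by (first | (rewrite [Cfsg.Agent.KO91b92bc.e9]; decide +kernel) | decide +kernel)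

/-- conjugating word -/
def g0 : List ℕ := [3,5,0,0,1,7,3,2,7,7,0,0,2,0,0,1,7,7,3,5,7,0,0,3,0,0,1,0,0,2,0,0,3,0,2,0,0,3,7,0,0,3,0,0,2,0,0,0,3,2]

/-- conjugating word -/
def g1 : List ℕ := [2,0,3,6,1,3,0,0,2,7,7,3,0,0,1,0,0,3,0,0,4,0,0,5,4,7,7,2,3,4,7,7,0,0,3,7,7,2,3,2,0,0,5,0,0,3,4,3,7,5]

/-- conjugating word -/
def g2 : List ℕ := [1,0,0,2,7,7,0,0,6,0,0,1,3,5,4,7,3,6,7,7,0,0,3,7,0,0,2,7,5,7,7,2,0,0,0,6,0,0,5,0,0,2,5,7,5,2,7,3,1,7,7,0,0]

/-- conjugating word -/
def g3 : List ℕ := [0,0,1,7,7,0,0,3,7,7,0,0,6,0,0,3,0,0,2,5,0,0,6,7,7,3,0,0,6,0,0,1,3,7,7,2,1,0,0,2,3,0,0,5,7,1,2,1,7,2,5,6]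

/-- conjugating word -/
def g4 : List ℕ := [3,1,7,7,0,0,1,7,2,0,0,1,3,7,7,5,7,7,0,0,6,0,0,4,0,0,3,7,2,5,4,7,7,0,0,3,4,0,0]

/-- conjugating word -/
def g5 : List ℕ := [0,0,6,7,7,5,0,0,3,0,0,1,7,7,0,0,2,3,7,7,3,6,0,0,5,0,0,3,7,0,0,3,0,0,0,7,3,7,7,5,7,6,0,0,5,7,7,0,0,2,7,5,7,1,0,0,2,7,
  7,1,0,0]

/-- the check of an identity -/
noncomputable def chk (u v : List ℕ) : Bool :=
  wok gs15 u && wok gs15 v && checkEq cfg (wmats gs15 u) (wmats gs15 v) 0 24

private noncomputable def _root_.Cfsg.Agent.KO91b92bc.k10 : (by first | exact type_of% @Cfsg.Agent.H526.Co3Data.chk | exact Unit : Sort _) := by first | (refine @Subtype.val _ (fun g => @Cfsg.Agent.H526.Co3Data.chk = @g) (@Subtype.mk _ _ (@(fun (x0 : @List.{0} @Nat) (x1 : @List.{0} @Nat) => @Bool.rec.{1} @(fun (x2 : @Bool) => @Bool) @Bool.false (@Cfsg.Agent.KO91b92bc.k2 @Cfsg.Agent.SporRec.LeechMod3.cfg (@Cfsg.Agent.KO91b92bc.k4.{0, 0} @Nat @Nat @(fun (x2 : @Nat) => @Option.rec.{1, 0} @Nat @(fun (x3 : @Option.{0} @Nat) => @Nat) (nat_lit 0) @(fun (x3 : @Nat)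 => x3) (@Cfsg.Agent.KO91b92bc.k6.{0} @Nat @Cfsg.Agent.H526.Co3Data.gs15 @x2)) @x0) (@Cfsg.Agent.KO91b92bc.k4.{0, 0} @Nat @Nat @(fun (x2 : @Nat) => @Option.rec.{1, 0} @Nat @(fun (x3 : @Option.{0} @Nat) => @Nat) (nat_lit 0) @(fun (x3 : @Nat) => x3) (@Cfsg.Agent.KO91b92bc.k6.{0} @Nat @Cfsg.Agent.H526.Co3Data.gs15 @x2)) @x1) (nat_lit 0) (nat_lit 24)) (@Bool.rec.{1} @(fun (x2 : @Bool) => @Bool) @Bool.false (@Cfsg.Agent.KO91b92bc.k7.{0} @Nat @x1 @(fun (x2 : @Nat) => @Nat.ble (@Nat.succ @x2) (@Cfsg.Agent.KO91b92bc.k8.{0} @Nat @Cfsg.Agent.H526.Co3Data.gs15))) (@Cfsg.Agent.KO91b92bc.k7.{0} @Nat @x0 @(fun (x2 : @Nat) => @Nat.ble (@Nat.succ @x2) (@Cfsg.Agent.KO91b92bc.k8.{0} @Nat @Cfsg.Agent.H526.Co3Data.gs15)))))) ?_); rewrite [← Cfsg.Agent.KO91b92bc.e8.{0}, ← Cfsg.Agent.KO91b92bc.e7.{0}, ← Cfsg.Agent.KO91b92bc.e6.{0}, ← Cfsg.Agent.KO91b92bc.e4.{0, 0}, ← Cfsg.Agent.KO91b92bc.e2]; (try delta Cfsg.Agent.H526.Co3Data.chk Cfsg.Agent.SporRec.LeechChain.wok Cfsg.Agent.SporRec.LeechChain.wmats); (try generalize @Cfsg.Agent.Lib.PackMat.checkEq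 = g0); (try generalize @Cfsg.Agent.SporRec.LeechMod3.cfg = g1); (try generalize @Cfsg.Agent.H526.Co3Data.gs15 = g2); rfl') | exact @Cfsg.Agent.H526.Co3Data.chk | exact ()
private theorem _root_.Cfsg.Agent.KO91b92bc.e10 : (by first | exact @Cfsg.Agent.H526.Co3Data.chk = @_root_.Cfsg.Agent.KO91b92bc.k10 | exact True : Prop) := by first | (delta _root_.Cfsg.Agent.KO91b92bc.k10; exact @Subtype.property _ (fun g => @Cfsg.Agent.H526.Co3Data.chk = @g) _) | rfl | trivial

theorem conj2 : chk ([10] ++ g2) (g2 ++ [14]) = true := by (first | (rewrite [Cfsg.Agent.KO91b92bc.e10]; decide +kernel) | decide +kernel)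
theorem conj3 : chk ([11] ++ g3) (g3 ++ [14]) = true := by (first | (rewrite [Cfsg.Agent.KO91b92bc.e10]; decide +kernel) | decide +kernel)
theorem conj4 : chk ([12] ++ g4) (g4 ++ [14]) = true := by (first | (rewrite [Cfsg.Agent.KO91b92bc.e10]; decide +kernel) | decide +kernel)
theorem conj5 : chk ([13] ++ g5) (g5 ++ [14]) = true := by (first | (rewrite [Cfsg.Agent.KO91b92bc.e10]; decide +kernel) | decide +kernel)
theorem conj0 : chk ([8] ++ g0) (g0 ++ [10,11]) = true := by (first | (rewrite [Cfsg.Agent.KO91b92bc.e10]; decide +kernel) | decide +kernel)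
theorem conj1 : chk ([9] ++ g1) (g1 ++ [10,11]) = true := by (first | (rewrite [Cfsg.Agent.KO91b92bc.e10]; decide +kernel) | decide +kernel)
theorem cube : ((List.range 7).all fun i => chk [8 + i, 8 + i, 8 + i] []) = true := by decide +kernel

/-- relations -/
def relw : ℕ → ℕ → List ℕ
  | 0, 1 => [1,6,6]
  | 0, 2 => [2,2,3,3,4,5,5,6,6]
  | 0, 3 => [2,3,3,5,6]
  | 0, 4 => [2,3,3,4,4,5,5,6,6]
  | 0, 5 => [2,4,4,5,6]
  | 0, 6 => [6]
  | 1, 2 => [3,3,5,5,6,6]
  | 1, 3 => [2,3,4,4,6]
  | 1, 4 => [2,2,3,3,4,5,5,6]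
  | 1, 5 => [3,4,5,5]
  | 1, 6 => [6]
  | _, j => [j]

/-- the check of a relation -/
noncomputable def relOK (i j : ℕ) : Bool :=
  (relw i j).all (fun k => Nat.blt i k && Nat.blt k 7) && chk [8 + i, 8 + j] ((relw i j).map (8 + ·) ++ [8 + i])

theorem rel_all : ((List.range 7).all fun i => (List.range 7).all fun j => !(Nat.blt i j) || relOK i j) = true := by
  decide +kernel

/-- a row with a regular orbit -/
def V : ℕ := 0x8000000000000000000000000000010002

theorem rowV : (Nat.blt V (2 ^ (15 * 24)) && allBelow (fun i => Nat.blt (dg 15 V i) 3) 24) = true := by decide +kernel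

/-- the image of the row -/
noncomputable def key (u : List ℕ) : ℕ := run cfg (wmats gs15 u) V

/-- words of normal forms -/
def w8 (N : ℕ) : List ℕ := (nfw 3 7 0 N).map (8 + ·)

/-- the check for the centre -/
noncomputable def cenOK (N : ℕ) : Bool := Nat.beq N 0 || (Nat.beq N 729 || (Nat.beq N 1458 ||
  ([0, 1, 2].any fun k => !Nat.beq (key (w8 N ++ [8 + k])) (key ((8 + k) :: w8 N)))))

private theorem _root_.Cfsg.Agent.KO91b92bc.e11.{ku} {M : Nat → Sort ku} (φ : ∀ n, M n) {z : M Nat.zero} {s : ∀ n, M n → M (Nat.succ n)} (h0 : φ Nat.zero = z) (hs : ∀ n, φ (Nat.succ n) = s n (φ n)) (n : Nat) : φ n = @Nat.rec M z s n := Nat.rec h0 (fun n ih => (hs n).trans (congrArg (s n) ih)) n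
private noncomputable def _root_.Cfsg.Agent.KO91b92bc.k12 : (@Nat → ((@List.{0} @Nat) → @List.{0} @Nat)) := @(fun (x0 : @Nat) (x1 : @List.{0} @Nat) => @Nat.rec.{1} @(fun (x2 : @Nat) => ((@List.{0} @Nat) → @List.{0} @Nat)) @(fun (x2 : @List.{0} @Nat) => x2) @(fun (x2 : @Nat) (x3 : ((@List.{0} @Nat) → @List.{0} @Nat)) (x4 : @List.{0} @Nat) => @x3 (@List.cons.{0} @Nat @x2 @x4)) @x0 @x1)
private theorem _root_.Cfsg.Agent.KO91b92bc.e12 : @List.range.loop = @_root_.Cfsg.Agent.KO91b92bc.k12 := by delta _root_.Cfsg.Agent.KO91b92bc.k12; funext a0 a1; refine (congrFun (_root_.Cfsg.Agent.KO91b92bc.e11 (fun a0 a1 => @List.range.loop a0 a1) ?_ (fun c0 => ?_) a0) a1 :) <;> (rfl')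
private noncomputable def _root_.Cfsg.Agent.KO91b92bc.k13 : (@Nat → @List.{0} @Nat) := @(fun (x0 : @Nat) => @Cfsg.Agent.KO91b92bc.k12 @x0 (@List.nil.{0} @Nat))
private theorem _root_.Cfsg.Agent.KO91b92bc.e13 : @List.range = @_root_.Cfsg.Agent.KO91b92bc.k13 := by delta _root_.Cfsg.Agent.KO91b92bc.k13; rewrite [← Cfsg.Agent.KO91b92bc.e12]; rfl'
private noncomputable def _root_.Cfsg.Agent.KO91b92bc.k16.{ku0} : ((x0 : Sort (ku0+1)) → ((@List.{ku0} @x0) → ((@List.{ku0} @x0) → @List.{ku0} @x0))) := @(fun (x0 : Sort (ku0+1)) (x1 : @List.{ku0} @x0) (x2 : @List.{ku0} @x0) => @List.rec.{(ku0+1), ku0} @x0 @(fun (x3 : @List.{ku0} @x0) => ((@List.{ku0} @x0) → @List.{ku0} @x0)) @(fun (x3 : @List.{ku0} @x0) => x3) @(fun (x3 : x0) (x4 : @List.{ku0} @x0) (x5 : ((@List.{ku0} @x0) → @List.{ku0} @x0)) (x6 : @List.{ku0} @x0) => @List.cons.{ku0} @x0 @x3 (@x5 @x6)) @x1 @x2)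
private theorem _root_.Cfsg.Agent.KO91b92bc.e16.{ku0} : @List.append.{ku0} = @_root_.Cfsg.Agent.KO91b92bc.k16.{ku0} := by delta _root_.Cfsg.Agent.KO91b92bc.k16; funext a0 a1 a2; refine (congrFun (_root_.Cfsg.Agent.KO91b92bc.e3 (fun a1 a2 => @List.append.{ku0} a0 a1 a2) ?_ (fun c0 c1 => ?_) a1) a2 :) <;> (rfl')
private noncomputable def _root_.Cfsg.Agent.KO91b92bc.k20.{ku0} : ((x0 : Sort (ku0+1)) → ((@List.{ku0} @x0) → ((x0 → @Bool) → @Bool))) := @(fun (x0 : Sort (ku0+1)) (x1 : @List.{ku0} @x0) (x2 : (x0 → @Bool)) => @List.rec.{(ku0+1), ku0} @x0 @(fun (x3 : @List.{ku0} @x0) => ((x0 → @Bool) → @Bool)) @(fun (x3 : (x0 → @Bool)) => @Bool.false) @(fun (x3 : x0) (x4 : @List.{ku0} @x0) (x5 : ((x0 → @Bool) → @Bool)) (x6 : (x0 → @Bool)) => @Bool.rec.{1} @(fun (x7 : @Bool) => @Bool) (@x5 @x6) @Bool.true (@x6 @x3)) @x1 @x2)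
private theorem _root_.Cfsg.Agent.KO91b92bc.e20.{ku0} : @List.any.{ku0} = @_root_.Cfsg.Agent.KO91b92bc.k20.{ku0} := by delta _root_.Cfsg.Agent.KO91b92bc.k20; funext a0 a1 a2; refine (congrFun (_root_.Cfsg.Agent.KO91b92bc.e3 (fun a1 a2 => @List.any.{ku0} a0 a1 a2) ?_ (fun c0 c1 => ?_) a1) a2 :) <;> (rfl')
private noncomputable def _root_.Cfsg.Agent.KO91b92bc.k21 : (by first | exact type_of% @Cfsg.Agent.Lib.PackMat.force | exact Unit : Sort _) := by first | (refine @Subtype.val _ (fun g => @Cfsg.Agent.Lib.PackMat.force = @g) (@Subtype.mk _ _ (@(fun (x0 : Type) (x1 : @Nat) (x2 : (@Nat → x0)) => @Nat.rec.{1} @(fun (x3 : @Nat) => x0) (@x2 (nat_lit 0)) @(fun (x3 : @Nat) (x4 : x0) => @x2 @x3) (@Nat.add @x1 (nat_lit 1)))) ?_); rfl') | exact @Cfsg.Agent.Lib.PackMat.force | exact ()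
private theorem _root_.Cfsg.Agent.KO91b92bc.e21 : (by first | exact @Cfsg.Agent.Lib.PackMat.force = @_root_.Cfsg.Agent.KO91b92bc.k21 | exact True : Prop) := by first | (delta _root_.Cfsg.Agent.KO91b92bc.k21; exact @Subtype.property _ (fun g => @Cfsg.Agent.Lib.PackMat.force = @g) _) | rfl | trivial
private noncomputable def _root_.Cfsg.Agent.KO91b92bc.k22 : (by first | exact type_of% @Cfsg.Agent.Lib.PackMat.foldK | exact Unit : Sort _) := by first | (refine @Subtype.val _ (fun g => @Cfsg.Agent.Lib.PackMat.foldK = @g) (@Subtype.mk _ _ (@(fun (x0 : @Nat) (x1 : @Nat) (x2 : @Nat) (x3 : @Nat) (x4 : @Nat) => @Nat.rec.{1} @(fun (x5 : @Nat) => (@Nat → @Nat)) @(fun (x5 : @Nat) => x5) @(fun (x5 : @Nat) (x6 : (@Nat → @Nat)) (x7 : @Nat) => @Cfsg.Agent.KO91b92bc.k21 @Nat (@Nat.add (@Nat.land @x7 @x1) (@Nat.land (@Nat.shiftRight @x7 @x0) @x2)) @(fun (x8 : @Nat) => @x6 @x8)) @x3 @x4)) ?_); rewrite [← Cfsg.Agent.KO91b92bc.e21]; funext a0 a1 a2 a3 a4; refine (congrFun (_root_.Cfsg.Agent.KO91b92bc.e11 (fun a3 a4 => @Cfsg.Agent.Lib.PackMat.foldK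 a0 a1 a2 a3 a4) ?_ (fun c0 => ?_) a3) a4 :) <;> ((try delta Cfsg.Agent.Lib.PackMat.foldK Cfsg.Agent.Lib.PackMat.foldK._f); (try generalize @Cfsg.Agent.Lib.PackMat.force = g0); rfl')) | exact @Cfsg.Agent.Lib.PackMat.foldK | exact ()
private theorem _root_.Cfsg.Agent.KO91b92bc.e22 : (by first | exact @Cfsg.Agent.Lib.PackMat.foldK = @_root_.Cfsg.Agent.KO91b92bc.k22 | exact True : Prop) := by first | (delta _root_.Cfsg.Agent.KO91b92bc.k22; exact @Subtype.property _ (fun g => @Cfsg.Agent.Lib.PackMat.foldK = @g) _) | rfl | trivial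
private noncomputable def _root_.Cfsg.Agent.KO91b92bc.k23 : (by first | exact type_of% @Cfsg.Agent.Lib.PackMat.stepK | exact Unit : Sort _) := by first | (refine @Subtype.val _ (fun g => @Cfsg.Agent.Lib.PackMat.stepK = @g) (@Subtype.mk _ _ (@(fun (x0 : @Nat) (x1 : @Nat) (x2 : @Nat) (x3 : @Nat) (x4 : @Nat) (x5 : @Nat) (x6 : @Nat) (x7 : @Nat) (x8 : @Nat) (x9 : @Nat) (x10 : @Nat) (x11 : @Nat) => @Cfsg.Agent.KO91b92bc.k21 @Nat (@Nat.mod (@Nat.land (@Nat.mul @x10 @x11) @x5) @x6) @(fun (x12 : @Nat) => @Cfsg.Agent.KO91b92bc.k21 @Nat (@Cfsg.Agent.KO91b92bc.k22 @x1 @x7 @x8 @x4 @x12) @(fun (x13 : @Nat) => @Nat.sub @x13 (@Nat.mul @x0 (@Nat.land (@Nat.shiftRight (@Nat.mul @x13 @x2) @x3) @x9)))))) ?_); rewrite [← Cfsg.Agent.KO91b92bc.e22, ← Cfsg.Agent.KO91b92bc.e21]; (try delta Cfsg.Agent.Lib.PackMat.stepK); (try generalize @Cfsg.Agent.Lib.PackMat.force = g0); (try generalize @Cfsg.Agent.Lib.PackMat.foldK = g1); rfl') | exact @Cfsg.Agent.Lib.PackMat.stepK | exact ()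
private theorem _root_.Cfsg.Agent.KO91b92bc.e23 : (by first | exact @Cfsg.Agent.Lib.PackMat.stepK = @_root_.Cfsg.Agent.KO91b92bc.k23 | exact True : Prop) := by first | (delta _root_.Cfsg.Agent.KO91b92bc.k23; exact @Subtype.property _ (fun g => @Cfsg.Agent.Lib.PackMat.stepK = @g) _) | rfl | trivial
private noncomputable def _root_.Cfsg.Agent.KO91b92bc.k24 : (by first | exact type_of% @Cfsg.Agent.Lib.PackMat.runK | exact Unit : Sort _) := by first | (refine @Subtype.val _ (fun g => @Cfsg.Agent.Lib.PackMat.runK = @g) (@Subtype.mk _ _ (@(fun (x0 : @Nat) (x1 : @Nat) (x2 : @Nat) (x3 : @Nat) (x4 : @Nat) (x5 : @Nat) (x6 : @Nat) (x7 : @Nat) (x8 : @Nat) (x9 : @Nat) (x10 : @List.{0} @Nat) (x11 : @Nat) => @List.rec.{1, 0} @Nat @(fun (x12 : @List.{0} @Nat) => (@Nat → @Nat)) @(fun (x12 : @Nat) => x12) @(fun (x12 : @Nat) (x13 : @List.{0} @Nat) (x14 : (@Nat → @Nat)) (x15 : @Nat) => @Cfsg.Agent.KO91b92bc.k21 @Nat (@Cfsg.Agent.KO91b92bc.k23 @x0 @x1 @x2 @x3 @x4 @x5 @x6 @x7 @x8 @x9 @x15 @x12) @(fun (x16 : @Nat) => @x14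 @x16)) @x10 @x11)) ?_); rewrite [← Cfsg.Agent.KO91b92bc.e23, ← Cfsg.Agent.KO91b92bc.e21]; funext a0 a1 a2 a3 a4 a5 a6 a7 a8 a9 a10 a11; refine (congrFun (_root_.Cfsg.Agent.KO91b92bc.e3 (fun a10 a11 => @Cfsg.Agent.Lib.PackMat.runK a0 a1 a2 a3 a4 a5 a6 a7 a8 a9 a10 a11) ?_ (fun c0 c1 => ?_) a10) a11 :) <;> ((try delta Cfsg.Agent.Lib.PackMat.runK Cfsg.Agent.Lib.PackMat.runK._f); (try generalize @Cfsg.Agent.Lib.PackMat.force = g0); (try generalize @Cfsg.Agent.Lib.PackMat.stepK = g1); rfl')) | exact @Cfsg.Agent.Lib.PackMat.runK | exact ()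
private theorem _root_.Cfsg.Agent.KO91b92bc.e24 : (by first | exact @Cfsg.Agent.Lib.PackMat.runK = @_root_.Cfsg.Agent.KO91b92bc.k24 | exact True : Prop) := by first | (delta _root_.Cfsg.Agent.KO91b92bc.k24; exact @Subtype.property _ (fun g => @Cfsg.Agent.Lib.PackMat.runK = @g) _) | rfl | trivial
private noncomputable def _root_.Cfsg.Agent.KO91b92bc.k25 : (by first | exact type_of% @Cfsg.Agent.Lib.PackMat.gmask | exact Unit : Sort _) := by first | (refine @Subtype.val _ (fun g => @Cfsg.Agent.Lib.PackMat.gmask = @g) (@Subtype.mk _ _ (@(fun (x0 : @Nat) (x1 : @Nat) => @Nat.mul (@Nat.mul (@Nat.sub (@Nat.pow (nat_lit 2) @x0) (nat_lit 1)) (@Nat.pow (nat_lit 2) (@Nat.mul @x0 (@Nat.sub @x1 (nat_lit 1))))) (@Cfsg.Agent.KO91b92bc.k0 (@Nat.mul @x0 @x1) @x1))) ?_); rewrite [← Cfsg.Agent.KO91b92bc.e0]; (try delta Cfsg.Agent.Lib.PackMat.gmask); (try generalize @Cfsg.Agent.Lib.PackMat.rep = g0); rfl') | exact @Cfsg.Agent.Lib.PackMat.gmask | exact ()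
private theorem _root_.Cfsg.Agent.KO91b92bc.e25 : (by first | exact @Cfsg.Agent.Lib.PackMat.gmask = @_root_.Cfsg.Agent.KO91b92bc.k25 | exact True : Prop) := by first | (delta _root_.Cfsg.Agent.KO91b92bc.k25; exact @Subtype.property _ (fun g => @Cfsg.Agent.Lib.PackMat.gmask = @g) _) | rfl | trivial
private noncomputable def _root_.Cfsg.Agent.KO91b92bc.k26 : (by first | exact type_of% @Cfsg.Agent.Lib.PackMat.GMc | exact Unit : Sort _) := by first | (refine @Subtype.val _ (fun g => @Cfsg.Agent.Lib.PackMat.GMc = @g) (@Subtype.mk _ _ (@(fun (x0 : @Cfsg.Agent.Lib.PackMat.Cfg) => @Cfsg.Agent.KO91b92bc.k25 (@Cfsg.Agent.Lib.PackMat.Cfg.s @x0) (@Cfsg.Agent.Lib.PackMat.Cfg.n @x0))) ?_); rewrite [← Cfsg.Agent.KO91b92bc.e25]; (try delta Cfsg.Agent.Lib.PackMat.GMc); (try generalize @Cfsg.Agent.Lib.PackMat.gmask = g0); rfl') | exact @Cfsg.Agent.Lib.PackMat.GMc | exact ()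
private theorem _root_.Cfsg.Agent.KO91b92bc.e26 : (by first | exact @Cfsg.Agent.Lib.PackMat.GMc = @_root_.Cfsg.Agent.KO91b92bc.k26 | exact True : Prop) := by first | (delta _root_.Cfsg.Agent.KO91b92bc.k26; exact @Subtype.property _ (fun g => @Cfsg.Agent.Lib.PackMat.GMc = @g) _) | rfl | trivial
private noncomputable def _root_.Cfsg.Agent.KO91b92bc.k27 : (by first | exact type_of% @Cfsg.Agent.Lib.PackMat.FMc | exact Unit : Sort _) := by first | (refine @Subtype.val _ (fun g => @Cfsg.Agent.Lib.PackMat.FMc = @g) (@Subtype.mk _ _ (@(fun (x0 : @Cfsg.Agent.Lib.PackMat.Cfg) => @Nat.sub (@Nat.pow (nat_lit 2) (@Nat.mul (@Cfsg.Agent.Lib.PackMat.Cfg.s @x0) (@Nat.add (@Cfsg.Agent.Lib.PackMat.Cfg.n @x0) (nat_lit 1)))) (nat_lit 1))) ?_); rfl') | exact @Cfsg.Agent.Lib.PackMat.FMc | exact ()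
private theorem _root_.Cfsg.Agent.KO91b92bc.e27 : (by first | exact @Cfsg.Agent.Lib.PackMat.FMc = @_root_.Cfsg.Agent.KO91b92bc.k27 | exact True : Prop) := by first | (delta _root_.Cfsg.Agent.KO91b92bc.k27; exact @Subtype.property _ (fun g => @Cfsg.Agent.Lib.PackMat.FMc = @g) _) | rfl | trivial
private noncomputable def _root_.Cfsg.Agent.KO91b92bc.k28 : (by first | exact type_of% @Cfsg.Agent.Lib.PackMat.LOc | exact Unit : Sort _) := by first | (refine @Subtype.val _ (fun g => @Cfsg.Agent.Lib.PackMat.LOc = @g) (@Subtype.mk _ _ (@(fun (x0 : @Cfsg.Agent.Lib.PackMat.Cfg) => @Nat.mul (@Nat.sub (@Nat.pow (nat_lit 2) (@Cfsg.Agent.Lib.PackMat.Cfg.r @x0)) (nat_lit 1)) (@Cfsg.Agent.KO91b92bc.k0 (@Cfsg.Agent.Lib.PackMat.Cfg.s @x0) (@Cfsg.Agent.Lib.PackMat.Cfg.n @x0)))) ?_); rewrite [← Cfsg.Agent.KO91b92bc.e0]; (try delta Cfsg.Agent.Lib.PackMat.LOc); (try generalize @Cfsg.Agent.Lib.PackMat.rep = g0); rfl') | exact @Cfsg.Agent.Lib.PackMat.LOc | exact ()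
private theorem _root_.Cfsg.Agent.KO91b92bc.e28 : (by first | exact @Cfsg.Agent.Lib.PackMat.LOc = @_root_.Cfsg.Agent.KO91b92bc.k28 | exact True : Prop) := by first | (delta _root_.Cfsg.Agent.KO91b92bc.k28; exact @Subtype.property _ (fun g => @Cfsg.Agent.Lib.PackMat.LOc = @g) _) | rfl | trivial
private noncomputable def _root_.Cfsg.Agent.KO91b92bc.k29 : (by first | exact type_of% @Cfsg.Agent.Lib.PackMat.HIc | exact Unit : Sort _) := by first | (refine @Subtype.val _ (fun g => @Cfsg.Agent.Lib.PackMat.HIc = @g) (@Subtype.mk _ _ (@(fun (x0 : @Cfsg.Agent.Lib.PackMat.Cfg) => @Nat.mul (@Nat.sub (@Nat.pow (nat_lit 2) (@Nat.sub (@Cfsg.Agent.Lib.PackMat.Cfg.s @x0) (@Cfsg.Agent.Lib.PackMat.Cfg.r @x0))) (nat_lit 1)) (@Cfsg.Agent.KO91b92bc.k0 (@Cfsg.Agent.Lib.PackMat.Cfg.s @x0) (@Cfsg.Agent.Lib.PackMat.Cfg.n @x0)))) ?_); rewrite [← Cfsg.Agent.KO91b92bc.e0]; (try delta Cfsg.Agent.Lib.PackMat.HIc); (try generalize @Cfsg.Agent.Lib.PackMat.rep = g0); rfl') | exact @Cfsg.Agent.Lib.PackMat.HIc | exact ()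
private theorem _root_.Cfsg.Agent.KO91b92bc.e29 : (by first | exact @Cfsg.Agent.Lib.PackMat.HIc = @_root_.Cfsg.Agent.KO91b92bc.k29 | exact True : Prop) := by first | (delta _root_.Cfsg.Agent.KO91b92bc.k29; exact @Subtype.property _ (fun g => @Cfsg.Agent.Lib.PackMat.HIc = @g) _) | rfl | trivial
private noncomputable def _root_.Cfsg.Agent.KO91b92bc.k30 : (by first | exact type_of% @Cfsg.Agent.Lib.PackMat.HTc | exact Unit : Sort _) := by first | (refine @Subtype.val _ (fun g => @Cfsg.Agent.Lib.PackMat.HTc = @g) (@Subtype.mk _ _ (@(fun (x0 : @Cfsg.Agent.Lib.PackMat.Cfg) => @Nat.mul (@Nat.sub (@Nat.pow (nat_lit 2) (@Nat.sub (@Cfsg.Agent.Lib.PackMat.Cfg.s @x0) (@Cfsg.Agent.Lib.PackMat.Cfg.t @x0))) (nat_lit 1)) (@Cfsg.Agent.KO91b92bc.k0 (@Cfsg.Agent.Lib.PackMat.Cfg.s @x0) (@Cfsg.Agent.Lib.PackMat.Cfg.n @x0)))) ?_); rewrite [← Cfsg.Agent.KO91b92bc.e0]; (try delta Cfsg.Agent.Lib.PackMat.HTc); (try generalize @Cfsg.Agent.Lib.PackMat.rep = g0); rfl') | exact @Cfsg.Agent.Lib.PackMat.HTc | exact ()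
private theorem _root_.Cfsg.Agent.KO91b92bc.e30 : (by first | exact @Cfsg.Agent.Lib.PackMat.HTc = @_root_.Cfsg.Agent.KO91b92bc.k30 | exact True : Prop) := by first | (delta _root_.Cfsg.Agent.KO91b92bc.k30; exact @Subtype.property _ (fun g => @Cfsg.Agent.Lib.PackMat.HTc = @g) _) | rfl | trivial
private noncomputable def _root_.Cfsg.Agent.KO91b92bc.k31 : (by first | exact type_of% @Cfsg.Agent.Lib.PackMat.run | exact Unit : Sort _) := by first | (refine @Subtype.val _ (fun g => @Cfsg.Agent.Lib.PackMat.run = @g) (@Subtype.mk _ _ (@(fun (x0 : @Cfsg.Agent.Lib.PackMat.Cfg) (x1 : @List.{0} @Nat) (x2 : @Nat) => @Cfsg.Agent.KO91b92bc.k24 (@Cfsg.Agent.Lib.PackMat.Cfg.p @x0) (@Cfsg.Agent.Lib.PackMat.Cfg.r @x0) (@Cfsg.Agent.Lib.PackMat.Cfg.m @x0) (@Cfsg.Agent.Lib.PackMat.Cfg.t @x0) (@Cfsg.Agent.Lib.PackMat.Cfg.nf @x0) (@Cfsg.Agent.KO91b92bc.k26 @x0) (@Cfsg.Agent.KO91b92bc.k27 @x0) (@Cfsg.Agent.KO91b92bc.k28 @x0) (@Cfsg.Agent.KO91b92bc.k29 @x0) (@Cfsg.Agent.KO91b92bc.k30 @x0) @x1 @x2)) ?_); rewrite [← Cfsg.Agent.KO91b92bc.e30,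 ← Cfsg.Agent.KO91b92bc.e29, ← Cfsg.Agent.KO91b92bc.e28, ← Cfsg.Agent.KO91b92bc.e27, ← Cfsg.Agent.KO91b92bc.e26, ← Cfsg.Agent.KO91b92bc.e24]; (try delta Cfsg.Agent.Lib.PackMat.run); (try generalize @Cfsg.Agent.Lib.PackMat.runK = g0); (try generalize @Cfsg.Agent.Lib.PackMat.GMc = g1); (try generalize @Cfsg.Agent.Lib.PackMat.FMc = g2); (try generalize @Cfsg.Agent.Lib.PackMat.LOc = g3); (try generalize @Cfsg.Agent.Lib.PackMat.HIc = g4); (try generalize @Cfsg.Agent.Lib.PackMat.HTc = g5); rfl') | exact @Cfsg.Agent.Lib.PackMat.run | exact ()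
private theorem _root_.Cfsg.Agent.KO91b92bc.e31 : (by first | exact @Cfsg.Agent.Lib.PackMat.run = @_root_.Cfsg.Agent.KO91b92bc.k31 | exact True : Prop) := by first | (delta _root_.Cfsg.Agent.KO91b92bc.k31; exact @Subtype.property _ (fun g => @Cfsg.Agent.Lib.PackMat.run = @g) _) | rfl | trivial
private noncomputable def _root_.Cfsg.Agent.KO91b92bc.k32.{ku0} : ((x0 : Sort (ku0+1)) → (@Nat → (x0 → @List.{ku0} @x0))) := @(fun (x0 : Sort (ku0+1)) (x1 : @Nat) (x2 : x0) => @Nat.rec.{(ku0+1)} @(fun (x3 : @Nat) => (x0 → @List.{ku0} @x0)) @(fun (x3 : x0) => @List.nil.{ku0} @x0) @(fun (x3 : @Nat) (x4 : (x0 → @List.{ku0} @x0)) (x5 : x0) => @List.cons.{ku0} @x0 @x5 (@x4 @x5)) @x1 @x2)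
private theorem _root_.Cfsg.Agent.KO91b92bc.e32.{ku0} : @List.replicate.{ku0} = @_root_.Cfsg.Agent.KO91b92bc.k32.{ku0} := by delta _root_.Cfsg.Agent.KO91b92bc.k32; funext a0 a1 a2; refine (congrFun (_root_.Cfsg.Agent.KO91b92bc.e11 (fun a1 a2 => @List.replicate.{ku0} a0 a1 a2) ?_ (fun c0 => ?_) a1) a2 :) <;> (rfl')
private noncomputable def _root_.Cfsg.Agent.KO91b92bc.k33 : (by first | exact type_of% @Cfsg.Agent.H526.PcNf.nfw | exact Unit : Sort _) := by first | (refine @Subtype.val _ (fun g => @Cfsg.Agent.H526.PcNf.nfw = @g) (@Subtype.mk _ _ (@(fun (x0 : @Nat) (x1 : @Nat) (x2 : @Nat) (x3 : @Nat) => @Nat.rec.{1} @(fun (x4 : @Nat) => (@Nat → (@Nat → @List.{0} @Nat))) @(fun (x4 : @Nat) (x5 : @Nat) => @List.nil.{0} @Nat) @(fun (x4 : @Nat) (x5 : (@Nat → (@Nat → @List.{0} @Nat))) (x6 : @Nat) (x7 : @Nat) => @Cfsg.Agent.KO91b92bc.k16.{0} @Nat (@Cfsg.Agent.KO91b92bc.k32.{0} @Nat (@Nat.mod @x7 @x0) @x6) (@x5 (@Nat.add @x6 (nat_lit 1)) (@Nat.div @x7 @x0))) @x1 @x2 @x3)) ?_); rewrite [← Cfsg.Agent.KO91b92bc.e32.{0},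 ← Cfsg.Agent.KO91b92bc.e16.{0}]; funext a0 a1 a2 a3; refine (congrFun (congrFun (_root_.Cfsg.Agent.KO91b92bc.e11 (fun a1 a2 a3 => @Cfsg.Agent.H526.PcNf.nfw a0 a1 a2 a3) ?_ (fun c0 => ?_) a1) a2) a3 :) <;> (rfl')) | exact @Cfsg.Agent.H526.PcNf.nfw | exact ()
private theorem _root_.Cfsg.Agent.KO91b92bc.e33 : (by first | exact @Cfsg.Agent.H526.PcNf.nfw = @_root_.Cfsg.Agent.KO91b92bc.k33 | exact True : Prop) := by first | (delta _root_.Cfsg.Agent.KO91b92bc.k33; exact @Subtype.property _ (fun g => @Cfsg.Agent.H526.PcNf.nfw = @g) _) | rfl | trivial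
private noncomputable def _root_.Cfsg.Agent.KO91b92bc.k34 : (by first | exact type_of% @Cfsg.Agent.H526.Co3Data.w8 | exact Unit : Sort _) := by first | (refine @Subtype.val _ (fun g => @Cfsg.Agent.H526.Co3Data.w8 = @g) (@Subtype.mk _ _ (@(fun (x0 : @Nat) => @Cfsg.Agent.KO91b92bc.k4.{0, 0} @Nat @Nat @(fun (x1 : @Nat) => @Nat.add (nat_lit 8) @x1) (@Cfsg.Agent.KO91b92bc.k33 (nat_lit 3) (nat_lit 7) (nat_lit 0) @x0))) ?_); rewrite [← Cfsg.Agent.KO91b92bc.e33, ← Cfsg.Agent.KO91b92bc.e4.{0, 0}]; (try delta Cfsg.Agent.H526.Co3Data.w8); (try generalize @Cfsg.Agent.H526.PcNf.nfw = g0); rfl') | exact @Cfsg.Agent.H526.Co3Data.w8 | exact ()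
private theorem _root_.Cfsg.Agent.KO91b92bc.e34 : (by first | exact @Cfsg.Agent.H526.Co3Data.w8 = @_root_.Cfsg.Agent.KO91b92bc.k34 | exact True : Prop) := by first | (delta _root_.Cfsg.Agent.KO91b92bc.k34; exact @Subtype.property _ (fun g => @Cfsg.Agent.H526.Co3Data.w8 = @g) _) | rfl | trivial
private noncomputable def _root_.Cfsg.Agent.KO91b92bc.k35 : (by first | exact type_of% @Cfsg.Agent.H526.Co3Data.cenOK | exact Unit : Sort _) := by first | (refine @Subtype.val _ (fun g => @Cfsg.Agent.H526.Co3Data.cenOK = @g) (@Subtype.mk _ _ (@(fun (x0 : @Nat) => @Bool.rec.{1} @(fun (x1 : @Bool) => @Bool) (@Bool.rec.{1} @(fun (x1 : @Bool) => @Bool) (@Bool.rec.{1} @(fun (x1 : @Bool) => @Bool) (@Cfsg.Agent.KO91b92bc.k20.{0} @Nat (@List.cons.{0} @Nat (nat_lit 0) (@List.cons.{0} @Nat (nat_lit 1) (@List.cons.{0} @Nat (nat_lit 2) (@List.nil.{0} @Nat)))) @(fun (x1 : @Nat) => @Bool.rec.{1} @(fun (x2 : @Bool) => @Bool) @Bool.true @Bool.false (@Nat.beq (@Cfsg.Agent.KO91b92bc.k31 @Cfsg.Agent.SporRec.LeechMod3.cfg (@Cfsg.Agent.KO91b92bc.k4.{0,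 0} @Nat @Nat @(fun (x2 : @Nat) => @Option.rec.{1, 0} @Nat @(fun (x3 : @Option.{0} @Nat) => @Nat) (nat_lit 0) @(fun (x3 : @Nat) => x3) (@Cfsg.Agent.KO91b92bc.k6.{0} @Nat @Cfsg.Agent.H526.Co3Data.gs15 @x2)) (@Cfsg.Agent.KO91b92bc.k16.{0} @Nat (@Cfsg.Agent.KO91b92bc.k34 @x0) (@List.cons.{0} @Nat (@Nat.add (nat_lit 8) @x1) (@List.nil.{0} @Nat)))) @Cfsg.Agent.H526.Co3Data.V) (@Cfsg.Agent.KO91b92bc.k31 @Cfsg.Agent.SporRec.LeechMod3.cfg (@Cfsg.Agent.KO91b92bc.k4.{0, 0} @Nat @Nat @(fun (x2 : @Nat) => @Option.rec.{1, 0} @Nat @(fun (x3 : @Option.{0} @Nat) => @Nat) (nat_lit 0) @(fun (x3 : @Nat) => x3) (@Cfsg.Agent.KO91b92bc.k6.{0} @Nat @Cfsg.Agent.H526.Co3Data.gs15 @x2)) (@List.cons.{0} @Nat (@Nat.add (nat_lit 8) @x1) (@Cfsg.Agent.KO91b92bc.k34 @x0))) @Cfsg.Agent.H526.Co3Data.V)))) @Bool.true (@Nat.beq @x0 (nat_lit 1458))) @Bool.true (@Nat.beq @x0 (nat_lit 729))) @Bool.true (@Nat.beq @x0 (nat_lit 0)))) ?_); rewrite [← Cfsg.Agent.KO91b92bc.e34, ← Cfsg.Agent.KO91b92bc.e16.{0}, ← Cfsg.Agent.KO91b92bc.e6.{0}, ← Cfsg.Agent.KO91b92bc.e4.{0,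 0}, ← Cfsg.Agent.KO91b92bc.e31, ← Cfsg.Agent.KO91b92bc.e20.{0}]; (try delta Cfsg.Agent.H526.Co3Data.cenOK Cfsg.Agent.H526.Co3Data.key Cfsg.Agent.SporRec.LeechChain.wmats); (try generalize @Cfsg.Agent.Lib.PackMat.run = g0); (try generalize @Cfsg.Agent.SporRec.LeechMod3.cfg = g1); (try generalize @Cfsg.Agent.H526.Co3Data.gs15 = g2); (try generalize @Cfsg.Agent.H526.Co3Data.w8 = g3); (try generalize @Cfsg.Agent.H526.Co3Data.V = g4); rfl') | exact @Cfsg.Agent.H526.Co3Data.cenOK | exact ()
private theorem _root_.Cfsg.Agent.KO91b92bc.e35 : (by first | exact @Cfsg.Agent.H526.Co3Data.cenOK = @_root_.Cfsg.Agent.KO91b92bc.k35 | exact True : Prop) := by first | (delta _root_.Cfsg.Agent.KO91b92bc.k35; exact @Subtype.property _ (fun g => @Cfsg.Agent.H526.Co3Data.cenOK = @g) _) | rfl | trivial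

theorem cen_all : ((List.range 2187).all fun N => cenOK N) = true := by (first | (rewrite [Cfsg.Agent.KO91b92bc.e7.{0}, Cfsg.Agent.KO91b92bc.e13, Cfsg.Agent.KO91b92bc.e35]; set_option maxRecDepth 200000 in decide +kernel) | decide +kernel)

set_option maxRecDepth 30000 in
/-- the normal forms sorted by the image of the row -/
def ord : List ℕ := [1542,0,1665,294,275,1848,591,277,2181,333,1629,263,1195,2061,1767,1932,1461,609,1856,1316,426,1909,227,970,1475,16,
  881,1807,996,2179,1209,653,505,898,1063,1609,1683,992,705,308,1206,274,1015,1861,1527,2073,1626,1298,1149,1875,337,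
  2058,1610,1058,1491,1407,1447,1240,177,626,1081,1817,1801,2014,1466,1981,742,68,2030,511,784,2068,660,1888,153,2102,
  1343,3,1438,1008,100,1289,314,2051,1744,2090,463,636,26,2037,1596,692,1303,1739,1812,612,1525,1269,1992,160,2180,
  1260,1711,679,1788,1034,785,248,351,133,1587,632,1603,1983,2118,813,151,1023,535,1770,1818,362,1369,701,1970,901,
  1285,278,884,95,2040,186,633,932,1411,1927,1680,1217,2145,1515,915,620,803,713,191,155,1872,1252,2079,394,112,245,
  1528,211,1678,1857,1922,1696,1480,1906,2100,1649,580,654,1222,500,778,1959,1329,961,973,7,370,136,1382,931,1434,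
  1487,1321,1879,1155,930,691,2142,1549,1907,45,1060,220,1133,42,349,2023,1637,389,1634,1471,324,823,727,1814,107,886,
  608,567,721,403,1700,395,1016,962,1404,2141,1721,1199,729,129,2140,1280,515,1050,1993,372,1128,617,1865,1569,189,
  103,596,951,702,156,774,621,1574,1945,1502,1974,1950,1421,2121,848,544,1190,564,1296,1984,469,413,433,1,1737,429,
  1092,864,867,1526,1749,287,1433,2006,1976,63,1122,2159,125,1512,520,1134,925,79,1825,1837,1584,1693,629,665,2175,
  651,1556,630,1374,810,671,1987,908,1091,1819,398,902,408,526,935,488,273,1275,226,148,1140,1137,2148,1159,1729,1142,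
  1851,1589,37,1563,1639,888,344,1345,144,381,317,1965,1442,1383,461,1297,353,572,422,1315,1047,1450,1824,51,576,24,
  348,1988,595,473,2126,1980,196,1482,556,1663,1802,588,219,1013,1059,1106,1646,957,2078,280,187,471,1973,1235,1340,
  2132,2168,1145,2112,113,509,1986,386,47,1564,194,73,583,2085,1281,1001,1439,1160,1350,748,1474,592,1991,821,1707,
  715,450,1601,830,484,681,1362,1643,1957,895,376,159,1572,53,1391,578,2012,547,1507,2052,334,2120,215,50,1975,661,
  1505,746,1550,995,1871,2072,1180,1624,2182,605,1371,1796,557,540,428,1622,965,368,794,481,1862,407,1953,1832,328,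
  744,2015,1551,2114,2076,650,188,807,1797,1147,788,2019,1704,695,414,883,1453,111,1718,375,1166,714,2064,392,366,566,
  1395,1414,1866,831,1478,1437,1578,2093,1489,741,1576,639,240,1051,1393,1775,492,2104,548,1776,109,296,866,181,1349,
  1129,1207,2097,438,1152,1390,648,437,709,584,1592,1476,1630,283,614,41,1969,753,737,1007,722,1270,250,1900,1014,
  2086,858,878,770,1585,826,290,2186,625,311,824,316,1496,1305,1944,1792,1310,1443,1941,1463,288,356,2022,1510,1279,
  1903,361,980,1032,666,873,613,2053,130,1570,2103,1232,1306,601,1307,1615,569,108,141,64,570,882,835,1553,1451,190,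
  1317,427,1513,2111,1486,1428,689,652,985,2152,128,819,448,1873,674,2080,1538,1325,644,1977,825,963,1479,1736,1701,
  720,180,933,1828,1605,638,150,1747,88,1849,1887,1810,329,724,1100,1380,1138,1110,1242,178,623,604,1529,1136,1286,
  193,1728,2113,474,332,1422,1531,2011,198,230,918,116,2150,1716,919,1097,797,2094,593,1949,466,2146,1139,417,954,549,
  1273,1299,1827,391,23,834,504,1836,1723,400,1093,953,2109,2133,1010,138,231,1409,1266,1244,2034,1284,30,1385,1958,
  166,139,1763,355,1112,1052,977,11,838,656,167,1777,2129,365,416,1990,54,1571,1057,261,1039,1177,1338,1323,1937,541,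
  31,1405,1968,1335,955,158,1951,1467,92,760,1348,514,1600,1042,331,1028,1144,1099,916,2036,887,1839,879,1176,1230,
  1681,1712,586,635,1799,268,836,874,378,551,1560,731,2056,301,876,1684,1756,1925,304,1613,2018,728,2024,2096,1109,
  1485,62,627,1892,1234,1346,800,373,1379,293,1532,775,664,856,1352,1150,1154,510,305,319,341,1036,1717,175,726,1884,
  561,254,1581,1493,783,1083,2105,176,776,1656,44,384,790,1738,1726,607,1423,497,545,2161,577,1148,984,2027,5,975,17,
  1809,907,1586,472,900,1979,1999,483,1191,207,1971,1399,192,719,587,251,1867,832,893,1607,420,1357,1604,818,1038,942,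
  829,1741,809,1105,1859,1488,1781,1820,906,234,421,1251,1490,1173,926,2033,1806,1813,1295,1786,1364,1118,1290,542,
  1673,1724,1123,487,677,29,862,2171,1524,1384,2095,1245,1890,98,1677,102,489,606,745,816,340,2077,1102,704,861,2122,
  1500,374,616,70,642,1783,1599,210,402,323,971,1158,1342,2125,1484,972,1647,752,1024,814,1483,1185,310,558,369,682,
  597,78,1921,1300,1043,501,843,1268,257,235,1171,1330,1030,1905,269,140,912,2144,1066,1394,359,2151,1203,1672,1378,
  602,1124,762,669,2157,224,979,1029,1229,997,1070,1940,1659,1654,2162,145,1878,1308,1048,1121,1894,1264,787,1620,74,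
  1844,209,496,519,1998,454,506,1418,1210,132,657,1283,793,477,555,1855,1040,1713,1009,1760,2143,354,182,2021,877,4,
  342,1952,1705,1779,1174,693,1762,1072,1954,379,804,1876,1743,1829,751,967,457,795,13,1521,49,1758,1627,846,1606,
  1368,1041,1257,1179,2089,622,750,589,218,1302,1631,1785,1301,1850,157,1838,1425,2031,1254,699,96,1644,859,1996,1336,
  978,19,225,229,446,2110,1882,1962,1561,243,1211,2165,1895,618,202,507,560,937,730,171,216,358,1127,812,649,1548,
  2172,1648,449,285,2001,91,1534,1082,1370,1545,2028,2067,452,890,168,1703,267,791,1003,292,380,1468,2002,1960,690,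
  1498,1216,1119,1893,796,1669,1320,184,1662,1045,38,486,851,1219,1579,1055,58,1831,529,1740,271,1926,1679,1537,1445,
  934,2059,1164,852,32,1617,1328,439,1751,1708,475,2088,1069,80,377,397,418,1201,1259,1205,346,1151,991,61,2042,1452,
  905,1687,1911,2044,424,921,1566,35,1113,2107,2017,2169,2049,1752,390,1440,84,1698,1787,1733,114,307,101,1619,658,
  581,411,482,2087,313,1789,1193,530,1213,2025,1341,2174,1655,259,1165,1731,1898,521,1472,1742,1311,27,1611,338,1826,
  1997,1766,1088,1580,536,2166,502,527,1565,1456,464,1170,747,773,1780,761,1319,55,244,518,1544,966,675,1448,206,1858,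
  1220,944,345,217,2153,1253,46,432,694,815,1755,1808,1709,1227,1645,237,1198,910,1417,1720,1868,1695,249,2000,1278,
  1562,1904,1682,149,1258,2131,404,1130,528,262,1424,479,1916,924,97,142,928,739,865,1842,1765,764,1080,808,940,1938,
  321,772,1558,756,1238,147,347,459,1376,83,2123,1277,134,1314,89,1846,1635,1880,1497,1923,645,441,659,1642,686,998,
  405,1344,869,1116,1090,1897,440,2099,1054,571,1653,1853,837,124,1495,670,272,65,1068,1702,543,1640,2045,1274,2156,
  2101,327,1715,920,1125,343,25,1860,131,1798,478,173,322,1084,575,2092,550,2130,444,1309,1557,1597,330,1657,1590,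
  2135,60,736,1459,734,1175,82,2178,754,1026,1312,811,1811,2160,1354,1226,298,93,1518,1197,853,1392,126,135,708,1870,
  1132,1934,771,1719,512,673,1415,974,801,1727,1400,1355,538,1616,1598,199,872,1377,1559,1403,326,2010,252,2124,20,
  1735,2184,766,383,1465,137,663,1552,1847,236,491,936,412,1791,1441,1753,850,765,1902,1250,1854,1243,891,85,522,2170,
  1455,981,115,1699,284,434,66,1265,948,48,999,1246,643,1077,1282,1431,1883,1215,1774,767,246,684,498,212,1625,1773,
  1373,1398,1852,1141,14,1086,1401,117,430,399,1101,525,697,1021,1249,777,565,1095,28,1012,1049,77,1429,162,1536,667,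
  1933,265,1192,1908,6,1420,917,1833,1031,1359,2020,1416,183,1503,903,1294,1189,1184,203,2164,839,1899,798,1636,1367,
  1982,820,1236,712,1178,143,494,1027,718,2177,22,239,1577,947,1803,1214,2075,255,233,553,221,2183,1638,1914,2128,
  1202,1840,270,2035,573,647,2016,2082,678,1621,1978,805,339,152,594,1795,1454,1834,1967,493,1764,610,279,127,740,
  1784,1096,1426,892,1748,1778,1994,490,1602,222,1444,289,174,1435,2137,696,455,1661,1035,1375,56,1688,2127,363,531,
  1157,1618,495,1262,982,1460,759,1667,460,1212,945,185,1108,1523,1874,847,1985,1691,1025,1955,2062,1800,1053,1011,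
  946,1462,2066,563,655,282,1239,1915,256,1734,1942,9,1107,205,75,1360,387,1449,1881,1769,276,451,1267,1334,1022,99,
  1078,600,1943,200,1530,523,827,179,914,969,590,1372,393,15,1745,1494,662,1919,12,1666,698,213,1514,2091,87,1804,165,
  1408,1356,1318,1241,2038,253,611,1327,1746,228,1464,1546,2173,688,43,1989,2029,1188,889,467,1492,410,802,871,723,
  1004,1821,2083,350,164,1517,983,1432,1261,2185,1292,2008,1103,779,1304,1924,733,927,1782,896,367,631,598,1805,1593,
  1628,1995,668,1473,1228,780,1363,1547,939,1186,508,2057,364,897,1732,436,1324,1664,1337,1056,1089,799,406,169,857,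
  1889,1161,1339,1156,1768,517,1231,1928,242,1322,122,264,841,1388,1387,960,36,1540,1271,562,949,1396,1694,880,260,
  1912,1131,2136,154,302,554,1896,1470,2098,1966,1386,2043,465,2139,806,320,1918,39,943,1823,1946,1005,786,840,1582,
  2047,286,1347,1920,499,2060,2117,870,757,1115,822,685,1750,1094,232,875,1757,409,2009,986,401,1841,1555,208,1506,
  1964,1293,2,1714,956,1255,755,223,1692,336,1706,732,922,968,357,929,1843,552,1397,69,1863,34,1126,110,1194,1936,
  1948,585,768,1509,119,315,1794,1033,443,2054,197,1087,1917,1901,707,2007,1689,1247,2032,456,1333,1225,1111,104,1218,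
  2163,71,458,1326,1223,1169,959,1501,672,300,1406,1815,1458,513,18,371,546,90,241,118,423,425,2071,2116,844,105,72,
  1062,1120,1146,537,462,1276,2108,1162,2149,1104,1554,1845,1910,2155,161,1504,21,480,1287,1499,1660,582,325,1168,
  1351,1869,106,703,532,1288,1730,1224,2050,1153,1182,958,885,976,2147,2048,1067,1272,1073,1658,396,993,1522,1877,641,
  743,1413,1885,247,382,2106,749,574,1419,1412,123,687,1939,619,163,445,2176,717,1361,1037,1427,1332,1864,360,1263,
  640,312,52,1183,1539,911,1670,1961,1535,1065,1567,1248,1761,291,1930,792,725,1650,1931,1947,763,1508,1710,1956,1167,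
  711,1446,1588,860,1071,855,603,1541,1020,1771,1963,868,833,306,1389,1469,735,1204,952,1690,1790,964,2167,1196,1676,
  1402,214,913,716,1353,817,81,1187,238,1044,758,415,10,615,2005,2115,1835,1117,1623,1608,442,2055,1674,2069,76,8,849,
  599,1686,1143,1675,1886,2154,842,1641,59,453,1221,579,299,297,559,1085,419,1481,1098,1200,2134,1793,637,1935,385,
  2081,435,2013,568,1612,503,1358,1000,303,781,1668,1135,2074,863,1722,1511,1163,1830,1891,683,1331,854,1477,318,195,
  1595,1046,1172,516,121,899,1002,120,1017,1594,476,710,533,909,1772,281,987,33,994,447,1061,1365,1575,1006,1913,1632,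
  1652,706,634,57,1366,1233,989,1018,1591,988,1519,923,2084,2070,2004,628,1074,1822,680,782,1075,894,941,1759,1929,
  524,1633,2046,1614,738,904,40,468,86,789,1754,700,845,1181,2063,309,1291,2119,1019,1685,2041,646,2039,204,1725,352,
  1516,534,1208,258,1410,990,335,1573,1237,769,1114,1543,266,828,94,67,172,624,2003,1064,295,2158,1076,1583,1430,1256,
  1697,539,201,676,170,1381,1533,1972,2138,2026,1313,431,1651,2065,1079,1520,1816,146,470,1568,1457,485,1671,1436,950,
  938,388]

theorem ord_length : ord.length = 2187 := by decide +kernel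

private noncomputable def _root_.Cfsg.Agent.KO91b92bc.k38 : (by first | exact type_of% @Cfsg.Agent.Lib.PackMat.withC | exact Unit : Sort _) := by first | (refine @Subtype.val _ (fun g => @Cfsg.Agent.Lib.PackMat.withC = @g) (@Subtype.mk _ _ (@(fun (x0 : Type) (x1 : @Cfsg.Agent.Lib.PackMat.Cfg) (x2 : (@Nat → (@Nat → (@Nat → (@Nat → (@Nat → (@Nat → (@Nat → (@Nat → (@Nat → (@Nat → (@Nat → x0)))))))))))) => @Cfsg.Agent.KO91b92bc.k21 @x0 (@Cfsg.Agent.Lib.PackMat.Cfg.s @x1) @(fun (x3 : @Nat) => @Cfsg.Agent.KO91b92bc.k21 @x0 (@Cfsg.Agent.Lib.PackMat.Cfg.p @x1) @(fun (x4 : @Nat) => @Cfsg.Agent.KO91b92bc.k21 @x0 (@Cfsg.Agent.Lib.PackMat.Cfg.r @x1) @(fun (x5 : @Nat) => @Cfsg.Agent.KO91b92bc.k21 @x0 (@Cfsg.Agent.Lib.PackMat.Cfg.m @x1) @(fun (x6 : @Nat) => @Cfsg.Agent.KO91b92bc.k21 @x0 (@Cfsg.Agent.Lib.PackMat.Cfg.t @x1) @(fun (x7 : @Nat) => @Cfsg.Agent.KO91b92bc.k21 @x0 (@Cfsg.Agent.Lib.PackMat.Cfg.nf @x1) @(fun (x8 : @Nat) => @Cfsg.Agent.KO91b92bc.k21 @x0 (@Cfsg.Agent.KO91b92bc.k26 @x1) @(fun (x9 : @Nat) => @Cfsg.Agent.KO91b92bc.k21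 @x0 (@Cfsg.Agent.KO91b92bc.k27 @x1) @(fun (x10 : @Nat) => @Cfsg.Agent.KO91b92bc.k21 @x0 (@Cfsg.Agent.KO91b92bc.k28 @x1) @(fun (x11 : @Nat) => @Cfsg.Agent.KO91b92bc.k21 @x0 (@Cfsg.Agent.KO91b92bc.k29 @x1) @(fun (x12 : @Nat) => @Cfsg.Agent.KO91b92bc.k21 @x0 (@Cfsg.Agent.KO91b92bc.k30 @x1) @(fun (x13 : @Nat) => @x2 @x3 @x4 @x5 @x6 @x7 @x8 @x9 @x10 @x11 @x12 @x13))))))))))))) ?_); rewrite [← Cfsg.Agent.KO91b92bc.e30, ← Cfsg.Agent.KO91b92bc.e29, ← Cfsg.Agent.KO91b92bc.e28, ← Cfsg.Agent.KO91b92bc.e27, ← Cfsg.Agent.KO91b92bc.e26, ← Cfsg.Agent.KO91b92bc.e21]; (try delta Cfsg.Agent.Lib.PackMat.withC); (try generalize @Cfsg.Agent.Lib.PackMat.force = g0); (try generalize @Cfsg.Agent.Lib.PackMat.GMc = g1); (try generalize @Cfsg.Agent.Lib.PackMat.FMc = g2); (try generalize @Cfsg.Agent.Lib.PackMat.LOc = g3); (try generalize @Cfsg.Agent.Lib.PackMat.HIc = g4); (try generalize @Cfsg.Agent.Lib.PackMat.HTc = g5); rfl') | exact @Cfsg.Agent.Lib.PackMat.withC | exact ()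
private theorem _root_.Cfsg.Agent.KO91b92bc.e38 : (by first | exact @Cfsg.Agent.Lib.PackMat.withC = @_root_.Cfsg.Agent.KO91b92bc.k38 | exact True : Prop) := by first | (delta _root_.Cfsg.Agent.KO91b92bc.k38; exact @Subtype.property _ (fun g => @Cfsg.Agent.Lib.PackMat.withC = @g) _) | rfl | trivial
private noncomputable def _root_.Cfsg.Agent.KO91b92bc.k39 : (by first | exact type_of% @Cfsg.Agent.SporRec.LeechChain.wordK | exact Unit : Sort _) := by first | (refine @Subtype.val _ (fun g => @Cfsg.Agent.SporRec.LeechChain.wordK = @g) (@Subtype.mk _ _ (@(fun (x0 : @Nat) (x1 : @Nat) (x2 : @Nat) (x3 : @Nat) (x4 : @Nat) (x5 : @Nat) (x6 : @Nat) (x7 : @Nat) (x8 : @Nat) (x9 : @Nat) (x10 : @List.{0} @Nat) (x11 : @List.{0} @Nat) (x12 : @Nat) => @List.rec.{1, 0} @Nat @(fun (x13 : @List.{0} @Nat) => (@Nat → @Nat)) @(fun (x13 : @Nat) => x13) @(fun (x13 : @Nat) (x14 : @List.{0} @Nat) (x15 : (@Nat → @Nat)) (x16 : @Nat) => @Cfsg.Agent.KO91b92bc.k21 @Nat (@Cfsg.Agent.KO91b92bc.k23 @x0 @x1 @x2 @x3 @x4 @x5 @x6 @x7 @x8 @x9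 @x16 (@Option.rec.{1, 0} @Nat @(fun (x17 : @Option.{0} @Nat) => @Nat) (nat_lit 0) @(fun (x17 : @Nat) => x17) (@Cfsg.Agent.KO91b92bc.k6.{0} @Nat @x10 @x13))) @(fun (x17 : @Nat) => @x15 @x17)) @x11 @x12)) ?_); rewrite [← Cfsg.Agent.KO91b92bc.e6.{0}, ← Cfsg.Agent.KO91b92bc.e23, ← Cfsg.Agent.KO91b92bc.e21]; funext a0 a1 a2 a3 a4 a5 a6 a7 a8 a9 a10 a11 a12; refine (congrFun (_root_.Cfsg.Agent.KO91b92bc.e3 (fun a11 a12 => @Cfsg.Agent.SporRec.LeechChain.wordK a0 a1 a2 a3 a4 a5 a6 a7 a8 a9 a10 a11 a12) ?_ (fun c0 c1 => ?_) a11) a12 :) <;> ((try delta Cfsg.Agent.SporRec.LeechChain.wordK Cfsg.Agent.SporRec.LeechChain.wordK._f); (try generalize @Cfsg.Agent.Lib.PackMat.force = g0); (try generalize @Cfsg.Agent.Lib.PackMat.stepK = g1); rfl')) | exact @Cfsg.Agent.SporRec.LeechChain.wordK | exact ()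
private theorem _root_.Cfsg.Agent.KO91b92bc.e39 : (by first | exact @Cfsg.Agent.SporRec.LeechChain.wordK = @_root_.Cfsg.Agent.KO91b92bc.k39 | exact True : Prop) := by first | (delta _root_.Cfsg.Agent.KO91b92bc.k39; exact @Subtype.property _ (fun g => @Cfsg.Agent.SporRec.LeechChain.wordK = @g) _) | rfl | trivial
private noncomputable def _root_.Cfsg.Agent.KO91b92bc.k40 : (by first | exact type_of% @Cfsg.Agent.SporRec.LeechChain.incrK | exact Unit : Sort _) := by first | (refine @Subtype.val _ (fun g => @Cfsg.Agent.SporRec.LeechChain.incrK = @g) (@Subtype.mk _ _ (@(fun (x0 : @Nat) (x1 : @Nat) (x2 : @Nat) (x3 : @Nat) (x4 : @Nat) (x5 : @Nat) (x6 : @Nat) (x7 : @Nat) (x8 : @Nat) (x9 : @Nat) (x10 : @List.{0} @Nat) (x11 : @Nat) (x12 : @List.{0} (@List.{0} @Nat)) (x13 : @Nat) => @List.rec.{1, 0} (@List.{0} @Nat) @(fun (x14 : @List.{0} (@List.{0} @Nat)) => (@Nat → @Bool)) @(fun (x14 : @Nat) => @Bool.true) @(fun (x14 : @List.{0} @Nat) (x15 : @List.{0} (@List.{0} @Nat)) (x16 : (@Nat → @Bool)) (x17 : @Nat) => @Cfsg.Agent.KO91b92bc.k21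 @Bool (@Cfsg.Agent.KO91b92bc.k39 @x0 @x1 @x2 @x3 @x4 @x5 @x6 @x7 @x8 @x9 @x10 @x14 @x11) @(fun (x18 : @Nat) => @Bool.rec.{1} @(fun (x19 : @Bool) => @Bool) @Bool.false (@x16 @x18) (@Nat.ble (@Nat.succ @x17) @x18))) @x12 @x13)) ?_); rewrite [← Cfsg.Agent.KO91b92bc.e39, ← Cfsg.Agent.KO91b92bc.e21]; funext a0 a1 a2 a3 a4 a5 a6 a7 a8 a9 a10 a11 a12 a13; refine (congrFun (_root_.Cfsg.Agent.KO91b92bc.e3 (fun a12 a13 => @Cfsg.Agent.SporRec.LeechChain.incrK a0 a1 a2 a3 a4 a5 a6 a7 a8 a9 a10 a11 a12 a13) ?_ (fun c0 c1 => ?_) a12) a13 :) <;> ((try delta Cfsg.Agent.SporRec.LeechChain.incrK Cfsg.Agent.SporRec.LeechChain.incrK._f); (try generalize @Cfsg.Agent.Lib.PackMat.force = g0); (try generalize @Cfsg.Agent.SporRec.LeechChain.wordK = g1); rfl')) | exact @Cfsg.Agent.SporRec.LeechChain.incrK | exact ()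
private theorem _root_.Cfsg.Agent.KO91b92bc.e40 : (by first | exact @Cfsg.Agent.SporRec.LeechChain.incrK = @_root_.Cfsg.Agent.KO91b92bc.k40 | exact True : Prop) := by first | (delta _root_.Cfsg.Agent.KO91b92bc.k40; exact @Subtype.property _ (fun g => @Cfsg.Agent.SporRec.LeechChain.incrK = @g) _) | rfl | trivial
private noncomputable def _root_.Cfsg.Agent.KO91b92bc.k41 : (by first | exact type_of% @Cfsg.Agent.SporRec.LeechChain.wok | exact Unit : Sort _) := by first | (refine @Subtype.val _ (fun g => @Cfsg.Agent.SporRec.LeechChain.wok = @g) (@Subtype.mk _ _ (@(fun (x0 : @List.{0} @Nat) (x1 : @List.{0} @Nat) => @Cfsg.Agent.KO91b92bc.k7.{0} @Nat @x1 @(fun (x2 : @Nat) => @Nat.ble (@Nat.succ @x2) (@Cfsg.Agent.KO91b92bc.k8.{0} @Nat @x0)))) ?_); rewrite [← Cfsg.Agent.KO91b92bc.e8.{0}, ← Cfsg.Agent.KO91b92bc.e7.{0}]; rfl') | exact @Cfsg.Agent.SporRec.LeechChain.wok | exact ()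
private theorem _root_.Cfsg.Agent.KO91b92bc.e41 : (by first | exact @Cfsg.Agent.SporRec.LeechChain.wok = @_root_.Cfsg.Agent.KO91b92bc.k41 | exact True : Prop) := by first | (delta _root_.Cfsg.Agent.KO91b92bc.k41; exact @Subtype.property _ (fun g => @Cfsg.Agent.SporRec.LeechChain.wok = @g) _) | rfl | trivial
private noncomputable def _root_.Cfsg.Agent.KO91b92bc.k42 : (by first | exact type_of% @Cfsg.Agent.SporRec.LeechChain.incr | exact Unit : Sort _) := by first | (refine @Subtype.val _ (fun g => @Cfsg.Agent.SporRec.LeechChain.incr = @g) (@Subtype.mk _ _ (@(fun (x0 : @List.{0} @Nat) (x1 : @Nat) (x2 : @List.{0} (@List.{0} @Nat)) => @Bool.rec.{1} @(fun (x3 : @Bool) => @Bool) @Bool.false (@Cfsg.Agent.KO91b92bc.k38 @Bool @Cfsg.Agent.SporRec.LeechMod3.cfg @(fun (x3 : @Nat) (x4 : @Nat) (x5 : @Nat) (x6 : @Nat) (x7 : @Nat) (x8 : @Nat) (x9 : @Nat) (x10 : @Nat) (x11 : @Nat) (x12 : @Nat) (x13 : @Nat) => @Cfsg.Agent.KO91b92bc.k40 @x4 @x5 @x6 @x7 @x8 @x9 @x10 @x11 @x12 @x13 @x0 @x1 @x2 (nat_lit 0))) (@Cfsg.Agent.KO91b92bc.k7.{0}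 (@List.{0} @Nat) @x2 (@Cfsg.Agent.KO91b92bc.k41 @x0)))) ?_); rewrite [← Cfsg.Agent.KO91b92bc.e41, ← Cfsg.Agent.KO91b92bc.e7.{0}, ← Cfsg.Agent.KO91b92bc.e40, ← Cfsg.Agent.KO91b92bc.e38]; (try delta Cfsg.Agent.SporRec.LeechChain.incr); (try generalize @Cfsg.Agent.Lib.PackMat.withC = g0); (try generalize @Cfsg.Agent.SporRec.LeechMod3.cfg = g1); (try generalize @Cfsg.Agent.SporRec.LeechChain.incrK = g2); (try generalize @Cfsg.Agent.SporRec.LeechChain.wok = g3); rfl') | exact @Cfsg.Agent.SporRec.LeechChain.incr | exact ()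
private theorem _root_.Cfsg.Agent.KO91b92bc.e42 : (by first | exact @Cfsg.Agent.SporRec.LeechChain.incr = @_root_.Cfsg.Agent.KO91b92bc.k42 | exact True : Prop) := by first | (delta _root_.Cfsg.Agent.KO91b92bc.k42; exact @Subtype.property _ (fun g => @Cfsg.Agent.SporRec.LeechChain.incr = @g) _) | rfl | trivial

theorem inc : incr gsP V (ord.map (nfw 3 7 0)) = true := by (first | (rewrite [Cfsg.Agent.KO91b92bc.e42, Cfsg.Agent.KO91b92bc.e4.{0, 0}, Cfsg.Agent.KO91b92bc.e33]; set_option maxRecDepth 200000 in decide +kernel) | decide +kernel)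

end Cfsg.Agent.H526.Co3Data
end

-- part: H526/Co3Three
section
set_option linter.all false
open scoped Cfsg.Agent.FastGrp

/-!
# `FullP 3` for `Co₃` (helper526)
-/

set_option autoImplicit false

namespace Cfsg.Agent.H526.Co3Three

open Subgroup Cfsg Cfsg.Agent.Lib.PackMat Cfsg.Agent.SporRec.LeechMod3 Cfsg.Agent.SporRec.LeechChain
  Cfsg.Agent.SporRec.Co3.MatData Cfsg.Agent.SporRec.Co3.ChainData Cfsg.Agent.SporRec.Co3.Chain
  Cfsg.Agent.H526.PcNf Cfsg.Agent.H526.Co3Data Cfsg.Agent.H749

theorem finite_co0 : Finite Co0 :=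
  Nat.finite_of_card_ne_zero (by rw [Cfsg.Agent.S0397.result]; norm_num)

theorem hasCode0 : ∀ c ∈ gs0, HasCode G3 c := by
  intro c hc
  obtain ⟨i, hi, rfl⟩ := List.getElem_of_mem hc
  have hi' : i < 8 := hi
  obtain ⟨g, hg, h1, h2⟩ := exists_el i hi'
  rw [List.getD_eq_getElem _ _ hi] at h1 h2
  exact ⟨h1, g, hg, h2⟩

theorem hasCode1 : ∀ c ∈ gs15, HasCode G3 c := by
  have h := hasCode0
  intro c hc
  simp only [gs15, List.mem_cons, List.not_mem_nil, or_false] at hc
  rcases hc with rfl | rfl | rfl | rfl | rfl | rfl | rfl | rfl | rfl | rfl | rfl | rfl | rfl | rfl | rfl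
  · exact h _ (by simp [gs0])
  · exact h _ (by simp [gs0])
  · exact h _ (by simp [gs0])
  · exact h _ (by simp [gs0])
  · exact h _ (by simp [gs0])
  · exact h _ (by simp [gs0])
  · exact h _ (by simp [gs0])
  · exact h _ (by simp [gs0])
  · exact HasCode.word h word0
  · exact HasCode.word h word1
  · exact HasCode.word h word2
  · exact HasCode.word h word3
  · exact HasCode.word h word4
  · exact HasCode.word h word5
  · exact HasCode.word h word6

theorem exists_el1 (i : ℕ) (hi : i < 15) : ∃ g ∈ G3, okG cfg (gs15.getD i 0) = true ∧ rho g = _root_.Cfsg.Agent.SporRec.LeechMod3.mt (gs15.getD i 0) := by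
  have hi' : i < gs15.length := hi
  obtain ⟨h1, g, hg, h2⟩ := hasCode1 (gs15.getD i 0) (by
    rw [List.getD_eq_getElem _ _ hi']
    exact List.getElem_mem hi')
  exact ⟨g, hg, h1, h2⟩

/-- the elements -/
noncomputable def el1 (i : ℕ) : Co0 := if h : i < 15 then Classical.choose (exists_el1 i h) else 1

theorem el1_spec (i : ℕ) (hi : i < 15) : el1 i ∈ G3 ∧ okG cfg (gs15.getD i 0) = true ∧
    rho (el1 i) = _root_.Cfsg.Agent.SporRec.LeechMod3.mt (gs15.getD i 0) := by
  unfold el1
  rw [dif_pos hi]
  exact Classical.choose_spec (exists_el1 i hi)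

theorem el1_mem (i : ℕ) : el1 i ∈ G3 := by
  by_cases hi : i < 15
  · exact (el1_spec i hi).1
  · unfold el1
    rw [dif_neg hi]
    exact one_mem _

/-- the elements of `G3` -/
noncomputable def L (i : ℕ) : G3 := ⟨el1 i, el1_mem i⟩

theorem coe_prod (u : List ℕ) : (((u.map L).prod : G3) : Co0) = (u.map el1).prod := by
  induction u with
  | nil => rfl
  | cons a u ih => rw [List.map_cons, List.prod_cons, List.map_cons, List.prod_cons, Subgroup.coe_mul, ih]; rfl

theorem spec : ∀ k < gs15.length, okG cfg (gs15.getD k 0) = true ∧ rho (el1 k) = _root_.Cfsg.Agent.SporRec.LeechMod3.mt (gs15.getD k 0) :=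
  fun k hk => (el1_spec k hk).2

theorem eq_of_chk {u v : List ℕ} (h : chk u v = true) : (u.map L).prod = (v.map L).prod := by
  apply Subtype.ext
  rw [coe_prod, coe_prod]
  exact word_eq (gs := gs15) (g := el1) spec h

theorem key_eq {u v : List ℕ} (hu : wok gs15 u = true) (hv : wok gs15 v = true) (h : (u.map L).prod = (v.map L).prod) :
    key u = key v := by
  have h0 : (u.map el1).prod = (v.map el1).prod := by rw [← coe_prod, ← coe_prod, h]
  obtain ⟨k1, k2⟩ := word_rho (g := el1) spec hu
  obtain ⟨l1, l2⟩ := word_rho (g := el1) spec hv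
  obtain ⟨m1, m2⟩ := run_rv k1 (okR_of rowV)
  obtain ⟨n1, n2⟩ := run_rv l1 (okR_of rowV)
  apply rv_inj m1 n1
  rw [m2, n2, ← k2, ← l2, h0]

/-- the polycyclic sequence -/
noncomputable def p (i : ℕ) : G3 := L (8 + i)

theorem prod_p (u : List ℕ) : (u.map p).prod = ((u.map (8 + ·)).map L).prod := by
  rw [List.map_map]; rfl

theorem rel_of {i j : ℕ} (hij : i < j) (hj : j < 7) : (relw i j).all (fun k => Nat.blt i k && Nat.blt k 7) = true ∧
    chk [8 + i, 8 + j] ((relw i j).map (8 + ·) ++ [8 + i]) = true := by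
  have h := List.all_eq_true.1 (List.all_eq_true.1 rel_all i (List.mem_range.2 (by omega))) j (List.mem_range.2 hj)
  rw [Bool.or_eq_true] at h
  rcases h with h | h
  · rw [Bool.not_eq_true', ← Bool.not_eq_true, Nat.blt_eq] at h
    exact absurd hij h
  · unfold relOK at h
    rwa [Bool.and_eq_true] at h

theorem pc : Pc 3 7 p where
  pow i hi := by
    have h := eq_of_chk (List.all_eq_true.1 cube i (List.mem_range.2 hi))
    simpa only [pow_succ, p, mul_assoc, _root_.pow_zero, _root_.one_mul, _root_.List.map_cons, _root_.List.map_nil, _root_.List.prod_cons, _root_.List.prod_nil, _root_.mul_one] using h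
  rel i j hij hj := by
    obtain ⟨h1, h2⟩ := rel_of hij hj
    have h3 := eq_of_chk h2
    rw [List.map_append, List.prod_append, ← prod_p] at h3
    have e : p i * p j * (p i)⁻¹ = ((relw i j).map p).prod := by
      rw [mul_inv_eq_iff_eq_mul]
      simpa only [p, _root_.List.map_cons, _root_.List.map_nil, _root_.List.prod_cons, _root_.List.prod_nil, _root_.mul_one] using h3
    rw [e]
    apply Subgroup.list_prod_mem
    intro y hy
    obtain ⟨k, hk, rfl⟩ := List.mem_map.1 hy
    have h4 := List.all_eq_true.1 h1 k hk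
    rw [Bool.and_eq_true, Nat.blt_eq, Nat.blt_eq] at h4
    exact subset_closure ⟨k, by omega, h4.2, rfl⟩

theorem hlow : 3 ^ 7 ≤ Nat.card ↥(_root_.Subgroup.closure (Sk 7 p 0)) := by
  have hf := finite_co0
  have h0 : ∀ c ∈ gsP, HasCode ((_root_.Subgroup.closure (Sk 7 p 0)).map G3.subtype) c := by
    intro c hc
    obtain ⟨i, hi, rfl⟩ := List.getElem_of_mem hc
    have hi' : i < 7 := hi
    have h1 := el1_spec (8 + i) (by omega)
    have h2 : gs15.getD (8 + i) 0 = gsP[i] := by
      interval_cases i <;> rfl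
    rw [h2] at h1
    exact ⟨h1.2.1, el1 (8 + i), ⟨p i, subset_closure ⟨i, by omega, hi', rfl⟩, rfl⟩, h1.2.2⟩
  have h := _root_.Cfsg.Agent.SporRec.LeechChain.step (K' := ⊥) bot_le h0 (okR_of rowV) (fun g hg => by
    rw [mem_bot.1 hg]; exact act_one _) inc inferInstance
  have h2 : Nat.card ((_root_.Subgroup.closure (Sk 7 p 0)).map G3.subtype) = Nat.card ↥(closure (Sk 7 p 0)) :=
    (Nat.card_congr (Subgroup.equivMapOfInjective _ G3.subtype Subtype.val_injective).toEquiv).symm
  rw [h2, List.length_map, ord_length, card_bot, mul_one] at h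
  exact h

theorem wok_w8 (N : ℕ) : wok gs15 (w8 N) = true := by
  unfold wok w8
  rw [List.all_eq_true]
  intro k hk
  obtain ⟨i, hi, rfl⟩ := List.mem_map.1 hk
  have := nfw_mem hi
  rw [Nat.blt_eq]
  show 8 + i < 15
  omega

theorem wok_append {u v : List ℕ} (hu : wok gs15 u = true) (hv : wok gs15 v = true) : wok gs15 (u ++ v) = true := by
  unfold wok at *
  rw [List.all_append, hu, hv]; rfl

/-- the centre -/
theorem centre {N : ℕ} (hN : N < 3 ^ 7)
    (hc : ∀ k < 7, ((nfw 3 7 0 N).map p).prod * p k = p k * ((nfw 3 7 0 N).map p).prod) :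
    N = 0 ∨ N = 729 ∨ N = 1458 := by
  have h := List.all_eq_true.1 cen_all N (List.mem_range.2 hN)
  unfold cenOK at h
  rw [Bool.or_eq_true, Bool.or_eq_true, Bool.or_eq_true, Nat.beq_eq, Nat.beq_eq, Nat.beq_eq] at h
  rcases h with h | h | h | h
  · exact Or.inl h
  · exact Or.inr (Or.inl h)
  · exact Or.inr (Or.inr h)
  · exfalso
    rw [List.any_eq_true] at h
    obtain ⟨k, hk, h⟩ := h
    have hk7 : k < 3 := by
      simp only [List.mem_cons, List.not_mem_nil, or_false] at hk
      omega
    rw [Bool.not_eq_true', ← Bool.not_eq_true, Nat.beq_eq] at h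
    apply h
    apply key_eq
    · exact wok_append (wok_w8 N) (by
        interval_cases k <;> decide)
    · exact wok_append (u := [8 + k]) (by
        interval_cases k <;> decide) (wok_w8 N)
    · have h1 := hc k (by omega)
      rw [prod_p] at h1
      rw [List.map_append, List.prod_append, List.map_cons, List.prod_cons]
      simpa only [p, w8, _root_.List.map_map, _root_.List.map_nil, _root_.List.prod_nil, _root_.mul_one, _root_.List.map_cons, _root_.List.prod_cons] using h1

/-- a conjugation -/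
theorem conj_of {P : G3 → Prop} (hP : PCl 3 P) {i : ℕ} {u v : List ℕ} (h : chk ([8 + i] ++ u) (u ++ v) = true)
    (hv : P (v.map L).prod) : P (p i) := by
  have h1 := eq_of_chk h
  rw [List.map_append, List.prod_append, List.map_append, List.prod_append] at h1
  have h2 : p i = (u.map L).prod * (v.map L).prod * ((u.map L).prod)⁻¹ := by
    rw [eq_mul_inv_iff_mul_eq, ← h1]
    simp [p]
  rw [h2]
  exact hP.conj _ hv

theorem fullP_G3 : FullP 3 G3 := by
  have : Fact (Nat.Prime 3) := ⟨Nat.prime_three⟩
  have hf := finite_co0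
  refine fullP_pc pc ?_ hlow (z := p 6) ?_ ?_
  · rw [isCo3_G3.2]
    norm_num
  · intro N hN hc h1
    rcases centre hN hc with rfl | rfl | rfl
    · exact absurd rfl h1
    · refine ⟨1, ?_⟩
      have e : ((nfw 3 7 0 729).map p).prod = p 6 := by
        rw [show nfw 3 7 0 729 = [6] by decide]
        simp
      rw [e, one_mul, inv_one, mul_one]
      exact mem_zpowers _
    · refine ⟨1, ?_⟩
      have e : ((nfw 3 7 0 1458).map p).prod = p 6 ^ 2 := by
        rw [show nfw 3 7 0 1458 = [6, 6] by decide]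
        simp only [pow_two, _root_.List.map_cons, _root_.List.map_nil, _root_.List.prod_cons, _root_.List.prod_nil, _root_.mul_one]
      rw [e, one_mul, inv_one, mul_one]
      refine ⟨2, ?_⟩
      have h3 := pc.pow 6 (by norm_num)
      calc (p 6 ^ 2) ^ (2 : ℤ) = p 6 ^ 3 * p 6 := by group
        _ = p 6 := by rw [h3, one_mul]
  · intro P hP hz
    have hpg := pc.isPGroup 7 0 (by norm_num)
    have h6 : P (([14] : List ℕ).map L).prod := by simpa [p] using hz
    have h2 : P (p 2) := conj_of hP conj2 h6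
    have h3 : P (p 3) := conj_of hP conj3 h6
    have h4 : P (p 4) := conj_of hP conj4 h6
    have h5 : P (p 5) := conj_of hP conj5 h6
    have h23 : P (p 2 * p 3) := hP.mul hpg (subset_closure ⟨2, by norm_num, by norm_num, rfl⟩)
      (subset_closure ⟨3, by norm_num, by norm_num, rfl⟩) h2 h3
    have h23' : P (([10, 11] : List ℕ).map L).prod := by simpa [p] using h23
    have h0 : P (p 0) := conj_of hP conj0 h23'
    have h1 : P (p 1) := conj_of hP conj1 h23'
    intro k hk
    interval_cases k
    · exact h0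
    · exact h1
    · exact h2
    · exact h3
    · exact h4
    · exact h5
    · exact hz

theorem fullP_co3_three {G : Type*} [Group G] [Finite G] (h : Cfsg.Spor.IsoCo3 G) : FullP 3 G := by
  obtain ⟨e⟩ := h
  exact FullP.of_mulEquiv (SporRec.Co3.Model.equivCo3.trans e.symm) fullP_G3

end Cfsg.Agent.H526.Co3Three

private theorem dce_d76149cc7a07 : _root_.True := by
  try have : _root_.True := by simp only [_root_.Cfsg.Agent.H526.Co3Three.p.eq_1]
  try have : _root_.True := by simp only [_root_.Cfsg.Agent.H526.Co3Data.w8.eq_1]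
  try have : _root_.True := by simp only [_root_.Cfsg.Agent.H526.Co3Data.gs15.eq_1]
  try have : _root_.True := by simp only [_root_.Cfsg.Agent.SporRec.Co3.ChainData.gs0.eq_1]
  exact _root_.True.intro
end
end
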